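import Cfsg.Agent.Lib.PElemPair.Orbits

/-!
# The models with `c` consecutive blocks on `p ^ 2` points
-/

set_option autoImplicit false

namespace CfsgLib.PElemPair

open Equiv

variable {p r c : ℕ}

/-- The `i`-th point of the `j`-th block, counted downwards. -/
def lab (p r : ℕ) (j : ℕ) (i : ZMod p) : ZMod r := ((j * p + (p - 1 - i.val) : ℕ) : ZMod r)

variable [hp : Fact p.Prime]

theorem lab_lt (hr : r = p ^ 2) (hc : c ≤ p) {j : ℕ} (hj : j < c) (i : ZMod p) : j * p + (p - 1 - i.val) < r := by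
  have h1 : (j + 1) * p ≤ p * p := Nat.mul_le_mul_right _ (by omega)
  rw [Nat.succ_mul] at h1
  have := hp.out.pos
  rw [hr, sq]
  omega

theorem lab_inj (hr : r = p ^ 2) (hc : c ≤ p) {j j' : ℕ} (hj : j < c) (hj' : j' < c) (i i' : ZMod p)
    (h : lab p r j i = lab p r j' i') : j = j' ∧ i = i' := by
  rw [lab, lab, ZMod.natCast_eq_natCast_iff', Nat.mod_eq_of_lt (lab_lt hr hc hj i),
    Nat.mod_eq_of_lt (lab_lt hr hc hj' i')] at h
  have hi := ZMod.val_lt i
  have hi' := ZMod.val_lt i'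
  have e : ∀ n k : ℕ, k < p → (n * p + k) / p = n := fun n k hk => by
    rw [Nat.add_comm, Nat.add_mul_div_right _ _ hp.out.pos, Nat.div_eq_of_lt hk, Nat.zero_add]
  have hjj : j = j' := by
    have := congrArg (· / p) h
    rwa [e _ _ (by omega), e _ _ (by omega)] at this
  refine ⟨hjj, ZMod.val_injective p ?_⟩
  subst hjj
  omega

theorem lab_val_succ (i : ZMod p) : (i + 1).val = if i.val + 1 < p then i.val + 1 else 0 := by
  have hi := ZMod.val_lt i
  rw [ZMod.val_add, ZMod.val_one]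
  split
  · next h => exact Nat.mod_eq_of_lt h
  · next h => rw [show i.val + 1 = p by omega, Nat.mod_self]

theorem cp_lt (hr : r = p ^ 2) (hc : c < p) {k : ℕ} (hk : k ≤ p) : c * p + k ≤ r := by
  have h1 : (c + 1) * p ≤ p * p := Nat.mul_le_mul_right _ hc
  rw [Nat.succ_mul] at h1
  rw [hr, sq]; omega

/-- The model with `c` blocks rotated downwards is good. -/
theorem blocks_good (hr : r = p ^ 2) (hc0 : 1 ≤ c) (hc : c < p) (hp3 : p ≠ 2) (v0 : Perm (ZMod r))
    (hv : ∀ j < c, ∀ i, v0 (lab p r j i) = lab p r j (i + 1))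
    (hfix : ∀ x, (∀ j < c, ∀ i, lab p r j i ≠ x) → v0 x = x) : Good p (rot r) v0 := by
  have hp2 := hp.out.two_le
  have hcp : (c + 1) * p ≤ p * p := Nat.mul_le_mul_right _ hc
  rw [Nat.succ_mul] at hcp
  have hr' : r = p * p := by rw [hr, sq]
  have hr0 : 0 < r := by rw [hr']; exact Nat.mul_pos hp.out.pos hp.out.pos
  haveI : NeZero r := ⟨hr0.ne'⟩
  have hval : ∀ x : ZMod p, x.val < p := ZMod.val_lt
  -- the multiples of `p` in the blocks go to the top of their blocks
  have htop : ∀ j < c, v0 ((j * p : ℕ) : ZMod r) = ((j * p + (p - 1) : ℕ) : ZMod r) := by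
    intro j hj
    have e : ((j * p : ℕ) : ZMod r) = lab p r j ((p - 1 : ℕ) : ZMod p) := by
      rw [lab, ZMod.val_natCast, Nat.mod_eq_of_lt (by omega), Nat.sub_self, Nat.add_zero]
    rw [e, hv j hj, lab, lab_val_succ, ZMod.val_natCast, Nat.mod_eq_of_lt (show p - 1 < p by omega),
      if_neg (by omega), Nat.sub_zero]
  have hout : ∀ x : ℕ, c * p ≤ x → x < r → v0 (x : ZMod r) = x := by
    intro x hx hxr
    refine hfix _ fun j hj i h => ?_
    rw [lab, ZMod.natCast_eq_natCast_iff', Nat.mod_eq_of_lt (lab_lt hr hc.le hj i), Nat.mod_eq_of_lt hxr] at h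
    have : (j + 1) * p ≤ c * p := Nat.mul_le_mul_right _ hj
    rw [Nat.succ_mul] at this
    omega
  -- the long cycle of the product
  let P : ℕ → ℕ := fun i => if i ≤ c then i * p else c * p + (i - c)
  set L := c + (r - c * p) with hL
  have hstep : ∀ i < L, (rot r * v0) ((P i : ℕ) : ZMod r) = ((P (i + 1) : ℕ) : ZMod r) := by
    intro i hi
    rw [Perm.mul_apply, rot_apply]
    rcases Nat.lt_or_ge i c with hic | hic
    · simp only [P]
      rw [if_pos hic.le, if_pos (show i + 1 ≤ c by omega), htop i hic, ← Nat.cast_succ, Nat.succ_mul]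
      congr 1
      omega
    · have hP : P i = c * p + (i - c) := by
        simp only [P]
        split
        · next h => rw [show i = c by omega, Nat.sub_self, Nat.add_zero]
        · rfl
      simp only [P] at hP ⊢
      rw [hP, hout _ (Nat.le_add_right _ _) (by omega), if_neg (show ¬ i + 1 ≤ c by omega), ← Nat.cast_succ]
      congr 1
      omega
  have hpow : ∀ i ≤ L, ((rot r * v0) ^ i) (0 : ZMod r) = ((P i : ℕ) : ZMod r) := by
    intro i
    induction i with
    | zero => intro _; simp [P]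
    | succ i ih => intro hi; rw [pow_succ', Perm.mul_apply, ih (by omega), hstep i (by omega)]
  have hPL : P L = r := by
    simp only [P]
    rw [if_neg (by omega)]
    omega
  have hLfix : ((rot r * v0) ^ L) (0 : ZMod r) = 0 := by rw [hpow L le_rfl, hPL, ZMod.natCast_self]
  have hper : per (rot r * v0) (0 : ZMod r) = L := by
    have hd := (pow_eq_iff _).1 hLfix
    refine Nat.le_antisymm (Nat.le_of_dvd (by omega) hd) (not_lt.1 fun hlt => ?_)
    have h0 := (pow_eq_iff _).2 (dvd_refl (per (rot r * v0) (0 : ZMod r)))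
    have hpos := per_pos (rot r * v0) (0 : ZMod r)
    rw [hpow _ hlt.le, ZMod.natCast_eq_zero_iff] at h0
    have hb : 0 < P (per (rot r * v0) (0 : ZMod r)) ∧ P (per (rot r * v0) (0 : ZMod r)) < r := by
      simp only [P]
      split
      · next h =>
        have : per (rot r * v0) (0 : ZMod r) * p ≤ c * p := Nat.mul_le_mul_right _ h
        exact ⟨Nat.mul_pos hpos hp.out.pos, by omega⟩
      · exact ⟨by omega, by omega⟩
    exact absurd (Nat.le_of_dvd hb.1 h0) (by omega)
  refine good_square hp3 hr (fun e he => ?_) ((c * p : ℕ) : ZMod r) 0 ?_ ?_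
  · have h1 : per (rot r * v0) (0 : ZMod r) ∣ p ^ e := (pow_eq_iff _).1 (by rw [he]; rfl)
    rw [hper] at h1
    obtain ⟨i, -, hi⟩ := (Nat.dvd_prime_pow hp.out).1 h1
    rcases i with _ | i
    · rw [pow_zero] at hi; omega
    · have hd : p ∣ L := hi ▸ dvd_pow_self p (Nat.succ_ne_zero i)
      have hd2 : p ∣ r - c * p := Nat.dvd_sub (hr' ▸ dvd_mul_right p p) (dvd_mul_left p c)
      have hdc : p ∣ c := (Nat.dvd_add_left hd2).1 (hL ▸ hd)
      exact absurd (Nat.le_of_dvd hc0 hdc) (by omega)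
  · rw [sub_zero, ← Nat.cast_mul, ZMod.natCast_eq_zero_iff, hr']
    exact ⟨c, by ring⟩
  · rw [hout (c * p) le_rfl (by omega)]
    have h00 := htop 0 hc0
    rw [Nat.zero_mul, Nat.zero_add, Nat.cast_zero] at h00
    rw [h00]
    intro h
    rw [mul_sub, sub_eq_zero, ← Nat.cast_mul, ← Nat.cast_mul, ZMod.natCast_eq_natCast_iff', hr',
      Nat.mul_mod_mul_left, Nat.mul_mod_mul_left, Nat.mul_mod_left, Nat.mod_eq_of_lt (by omega)] at h
    have := Nat.eq_of_mul_eq_mul_left hp.out.pos h
    omega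

/-- A labelling gives the model permutation. -/
theorem exists_blockPerm {s r c : ℕ} [NeZero r] (l : ℕ → ZMod s → ZMod r)
    (hinj : ∀ j < c, ∀ j' < c, ∀ i i', l j i = l j' i' → j = j' ∧ i = i') :
    ∃ v0 : Perm (ZMod r), (∀ j < c, ∀ i, v0 (l j i) = l j (i + 1)) ∧
      ∀ x, (∀ j < c, ∀ i, l j i ≠ x) → v0 x = x := by
  classical
  let emb : Fin c × ZMod s ↪ ZMod r := ⟨fun z => l z.1 z.2, fun z w h => by
    obtain ⟨h1, h2⟩ := hinj _ z.1.2 _ w.1.2 _ _ h
    exact Prod.ext (Fin.ext h1) h2⟩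
  refine ⟨Perm.viaEmbedding (Equiv.prodCongr (Equiv.refl (Fin c)) (rot s) : Perm (Fin c × ZMod s)) emb, fun j hj i => ?_, fun x hx => ?_⟩
  · exact Perm.viaEmbedding_apply _ emb (⟨j, hj⟩, i)
  · refine Perm.viaEmbedding_apply_of_notMem _ emb x ?_
    rintro ⟨z, rfl⟩
    exact hx _ z.1.2 _ rfl

end CfsgLib.PElemPair
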