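import Cfsg.Agent.Lib.PElemPair.Blocks

/-!
# A cycle of length `p ^ M` and an arbitrary `p`-element on the same points
-/

set_option autoImplicit false

namespace CfsgLib.PElemPair

open Equiv

/-- Good conjugates from a block restriction followed by a quotient. -/
theorem lift_good {p a q m r : ℕ} [NeZero m] (ha : a = q * m) (hq : 0 < q) (hrm : r ∣ m) (W g : Perm (ZMod a))
    (T : Finset (ZMod a)) (hT : ∀ x, x ∈ T ↔ W x ∈ T) (hout : ∀ x, x ∉ T → W x = x) (e : ↥T ≃ ZMod m)
    (hg : ∀ x : ↥T, g x = ((q * (e x).val : ℕ) : ZMod a)) (v0 : Perm (ZMod r))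
    (hf : ∀ x : ↥T, ZMod.castHom hrm (ZMod r) (e ⟨W x, (hT x).1 x.2⟩) = v0 (ZMod.castHom hrm (ZMod r) (e x)))
    (h0 : Good p (rot r) v0) : Good p (rot a) (g * W * g⁻¹) := by
  let WT : Perm ↥T := W.subtypePerm (fun x => (hT x).symm)
  let vT : Perm (ZMod m) := e.permCongr WT
  have hmid : Good p (rot m) vT := by
    refine Good.of_quotient (ZMod.castHom hrm (ZMod r)) (ZMod.castHom_surjective hrm) (fun x => ?_) (fun x => ?_) h0
    · rw [rot_apply, rot_apply, map_add, map_one]
    · show ZMod.castHom hrm (ZMod r) (e (WT (e.symm x))) = _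
      have := hf (e.symm x)
      rw [Equiv.apply_symm_apply] at this
      exact this
  have hgi : ∀ y : ZMod m, g⁻¹ ((q * y.val : ℕ) : ZMod a) = (e.symm y : ZMod a) := by
    intro y
    rw [Perm.inv_def, Equiv.symm_apply_eq, hg, Equiv.apply_symm_apply]
  refine Good.of_embedding (q := q) (fun y : ZMod m => ((q * y.val : ℕ) : ZMod a)) ?_ ?_ ?_ ?_ hq hmid
  · intro y y' h
    dsimp only at h
    rw [ZMod.natCast_eq_natCast_iff', ha, Nat.mul_mod_mul_left, Nat.mul_mod_mul_left,
      Nat.mod_eq_of_lt (ZMod.val_lt y), Nat.mod_eq_of_lt (ZMod.val_lt y')] at h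
    exact ZMod.val_injective m (Nat.eq_of_mul_eq_mul_left hq h)
  · intro y
    rw [rot_pow_apply, rot_apply, ← Nat.cast_add, ZMod.natCast_eq_natCast_iff', ha, ← Nat.mul_succ,
      Nat.mul_mod_mul_left, Nat.mul_mod_mul_left, ZMod.val_add, ZMod.val_one_eq_one_mod, Nat.add_mod_mod,
      Nat.mod_mod]
  · intro y
    show g (W (g⁻¹ _)) = _
    rw [hgi]
    exact hg (WT (e.symm y))
  · intro y j hj0 hjq
    show g (W (g⁻¹ _)) = _
    rw [rot_pow_apply]
    have hz : g⁻¹ (((q * y.val : ℕ) : ZMod a) + (j : ZMod a)) ∉ T := by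
      intro hmem
      have h := hg ⟨_, hmem⟩
      replace h := (Equiv.apply_symm_apply g _).symm.trans h
      generalize e ⟨_, hmem⟩ = w at h
      rw [← Nat.cast_add, ZMod.natCast_eq_natCast_iff', ha] at h
      have h2 := congrArg (· % q) h
      rw [Nat.mod_mul_right_mod, Nat.mod_mul_right_mod, Nat.mul_add_mod, Nat.mul_mod_right,
        Nat.mod_eq_of_lt hjq] at h2
      omega
    rw [hout _ hz, Perm.inv_def, Equiv.apply_symm_apply]

/-- Fibres of the reduction. -/
theorem card_fibre {m r F : ℕ} [NeZero m] [NeZero r] (hrm : r ∣ m) (hm : m = r * F) (i : ZMod r) :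
    Nat.card {y : ZMod m // ZMod.castHom hrm (ZMod r) y = i} = F := by
  have hc : ∀ j, Nat.card {y : ZMod m // ZMod.castHom hrm (ZMod r) y = j} =
      Nat.card {y : ZMod m // ZMod.castHom hrm (ZMod r) y = 0} := by
    intro j
    obtain ⟨z, hz⟩ := ZMod.castHom_surjective hrm j
    refine Nat.card_congr ((Equiv.addRight (-z)).subtypeEquiv fun y => ?_)
    rw [Equiv.coe_addRight, map_add, map_neg, hz, ← sub_eq_add_neg, sub_eq_zero]
  have h := Nat.card_congr (Equiv.sigmaFiberEquiv fun y : ZMod m => ZMod.castHom hrm (ZMod r) y)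
  rw [Nat.card_sigma, Finset.sum_congr rfl (fun j _ => hc j), Finset.sum_const, Finset.card_univ, ZMod.card,
    Nat.card_zmod, smul_eq_mul] at h
  rw [hc i]
  exact Nat.eq_of_mul_eq_mul_left (Nat.pos_of_ne_zero (NeZero.ne r)) (h.trans hm)

/-- Good conjugates of both signs. -/
theorem lift_signs {p a q m r F : ℕ} [NeZero a] [NeZero m] [NeZero r] (ha : a = q * m) (hq : 0 < q) (hm : m = r * F)
    (W : Perm (ZMod a)) (T : Finset (ZMod a)) (hT : ∀ x, x ∈ T ↔ W x ∈ T) (hout : ∀ x, x ∉ T → W x = x)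
    (hTm : T.card = m) (f : ZMod a → ZMod r) (hfib : ∀ i, (T.filter fun x => f x = i).card = F)
    (v0 : Perm (ZMod r)) (hf : ∀ x ∈ T, f (W x) = v0 (f x)) (h0 : Good p (rot r) v0)
    (hpar : ∃ x ∈ T, ∃ y ∈ T, x ≠ y ∧ (f x = f y ∨ (W x = x ∧ W y = y))) (s : ℤˣ) :
    ∃ g : Perm (ZMod a), Perm.sign g = s ∧ Good p (rot a) (g * W * g⁻¹) := by
  classical
  have hrm : r ∣ m := ⟨F, hm⟩
  have hfe : ∀ i : ZMod r, Nonempty ({x : ↥T // f x = i} ≃ {y : ZMod m // ZMod.castHom hrm (ZMod r) y = i}) := by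
    intro i
    refine Finite.card_eq.1 ?_
    rw [card_fibre hrm hm, ← hfib i, ← Nat.card_eq_finsetCard]
    refine Nat.card_congr ((Equiv.subtypeSubtypeEquivSubtypeInter (fun x => x ∈ T) fun x => f x = i).trans
      (Equiv.subtypeEquivRight fun x => ?_))
    rw [Finset.mem_filter]
  let e : ↥T ≃ ZMod m := Equiv.ofFiberEquiv (f := fun x : ↥T => f x) (g := ZMod.castHom hrm (ZMod r))
    fun i => (hfe i).some
  have he : ∀ x : ↥T, ZMod.castHom hrm (ZMod r) (e x) = f x := fun x => Equiv.ofFiberEquiv_map _ x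
  have hιinj : Function.Injective fun y : ZMod m => ((q * y.val : ℕ) : ZMod a) := by
    intro y y' h
    dsimp only at h
    rw [ZMod.natCast_eq_natCast_iff', ha, Nat.mul_mod_mul_left, Nat.mul_mod_mul_left,
      Nat.mod_eq_of_lt (ZMod.val_lt y), Nat.mod_eq_of_lt (ZMod.val_lt y')] at h
    exact ZMod.val_injective m (Nat.eq_of_mul_eq_mul_left hq h)
  let E : {x // x ∈ T} ≃ {x // x ∈ Set.range fun y : ZMod m => ((q * y.val : ℕ) : ZMod a)} :=
    e.trans (Equiv.ofInjective _ hιinj)
  let g : Perm (ZMod a) := E.extendSubtype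
  have hg : ∀ x : ↥T, g x = ((q * (e x).val : ℕ) : ZMod a) := fun x =>
    Equiv.extendSubtype_apply_of_mem E x x.2
  have hgood : Good p (rot a) (g * W * g⁻¹) :=
    lift_good ha hq hrm W g T hT hout e hg v0 (fun x => by rw [he, he]; exact hf x x.2) h0
  obtain ⟨x, hx, y, hy, hxy, hcase⟩ := hpar
  have hgood' : Good p (rot a) ((g * swap x y) * W * (g * swap x y)⁻¹) := by
    rcases hcase with hfxy | ⟨hWx, hWy⟩
    · have hmem : ∀ z : ↥T, swap x y (z : ZMod a) ∈ T := by
        intro z
        rw [Equiv.swap_apply_def]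
        split_ifs <;> first | assumption | exact z.2
      refine lift_good ha hq hrm W _ T hT hout ((Equiv.swap (⟨x, hx⟩ : ↥T) ⟨y, hy⟩).trans e) (fun z => ?_) v0
        (fun z => ?_) h0
      · rw [Perm.mul_apply, Equiv.trans_apply]
        have hval : swap x y (z : ZMod a) = ((Equiv.swap (⟨x, hx⟩ : ↥T) ⟨y, hy⟩) z : ↥T) :=
          Subtype.val_injective.swap_apply (⟨x, hx⟩ : ↥T) ⟨y, hy⟩ z
        rw [hval, hg]
      · have hfs : ∀ z : ↥T, f ((Equiv.swap (⟨x, hx⟩ : ↥T) ⟨y, hy⟩) z : ↥T) = f z := by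
          intro z
          rw [Equiv.swap_apply_def]
          split_ifs with h1 h2
          · subst h1; exact hfxy.symm
          · subst h2; exact hfxy
          · rfl
        rw [Equiv.trans_apply, Equiv.trans_apply, he, he, hfs, hfs]
        exact hf z z.2
    · have hc : swap x y * W * swap x y = W := by
        have h := Equiv.swap_apply_apply W x y
        rw [hWx, hWy] at h
        have h2 : swap x y * W = W * swap x y := eq_mul_inv_iff_mul_eq.1 h
        rw [h2, mul_assoc, Equiv.swap_mul_self, mul_one]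
      rw [mul_inv_rev, Equiv.swap_inv, show g * swap x y * W * (swap x y * g⁻¹) = g * (swap x y * W * swap x y) * g⁻¹ by
        group, hc]
      exact hgood
  by_cases hs : Perm.sign g = s
  · exact ⟨g, hs, hgood⟩
  · refine ⟨g * swap x y, ?_, hgood'⟩
    rw [map_mul, Perm.sign_swap hxy, Int.units_ne_iff_eq_neg.1 hs, mul_neg, mul_one, neg_neg]

variable {α : Type*} [Fintype α] [DecidableEq α] {W : Perm α}

/-- Labels of the points of `T` compatible with a model. -/
theorem exists_labels {p σ t c r : ℕ} (hp : p.Prime) [NeZero r] (T B : Finset α) (hBT : B ⊆ T) (hT : Inv W T)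
    (hB : Inv W B) (hper : ∀ x ∈ B, p ^ σ ∣ per W x ∧ per W x ∣ p ^ (σ + t)) (hBc : B.card = c * p ^ (σ + t))
    (hper' : ∀ x ∈ T, x ∉ B → per W x ∣ p ^ t) (hTc : T.card = r * p ^ t) (l : ℕ → ZMod (p ^ σ) → ZMod r)
    (hinj : ∀ j < c, ∀ j' < c, ∀ i i', l j i = l j' i' → j = j' ∧ i = i')
    (v0 : Perm (ZMod r)) (hv : ∀ j < c, ∀ i, v0 (l j i) = l j (i + 1))
    (hfix : ∀ x, (∀ j < c, ∀ i, l j i ≠ x) → v0 x = x) :
    ∃ f : α → ZMod r, (∀ x ∈ T, f (W x) = v0 (f x)) ∧ ∀ i, (T.filter fun x => f x = i).card = p ^ t := by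
  classical
  haveI : NeZero (p ^ σ) := ⟨pow_ne_zero _ hp.ne_zero⟩
  obtain ⟨h, h1, h2, h3⟩ := exists_partition hp c (σ + t) B hB (fun x hx => (hper x hx).2) hBc
  obtain ⟨φ, hφ⟩ := exists_phi W (p ^ σ)
  let Im : Finset (ZMod r) := ((Finset.range c) ×ˢ (Finset.univ : Finset (ZMod (p ^ σ)))).image fun z => l z.1 z.2
  have hIm : Im.card = c * p ^ σ := by
    rw [Finset.card_image_of_injOn, Finset.card_product, Finset.card_range, Finset.card_univ, ZMod.card]
    intro z hz w hw hzw
    simp only [Finset.coe_product, Set.mem_prod, Finset.coe_range, Set.mem_Iio, Finset.coe_univ, Set.mem_univ,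
      and_true] at hz hw
    obtain ⟨e1, e2⟩ := hinj _ hz _ hw _ _ hzw
    exact Prod.ext e1 e2
  have hR : Inv W (T \ B) := hT.sdiff hB
  have hRc : (T \ B).card = Imᶜ.card * p ^ t := by
    rw [Finset.card_sdiff_of_subset hBT, hTc, hBc, Finset.card_compl, ZMod.card, hIm, Nat.sub_mul, pow_add,
      Nat.mul_assoc]
  obtain ⟨h', h1', h2', h3'⟩ := exists_partition hp Imᶜ.card t (T \ B) hR
    (fun x hx => hper' x (Finset.mem_sdiff.1 hx).1 (Finset.mem_sdiff.1 hx).2) hRc
  let E := Imᶜ.equivFin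
  let lab' : ℕ → ZMod r := fun i => if hi : i < Imᶜ.card then (E.symm ⟨i, hi⟩ : ZMod r) else 0
  let f : α → ZMod r := fun x => if x ∈ B then l (h x) (φ x) else lab' (h' x)
  have hlab : ∀ i < Imᶜ.card, lab' i ∉ Im := by
    intro i hi
    simp only [lab', dif_pos hi]
    exact Finset.mem_compl.1 (E.symm ⟨i, hi⟩).2
  have hlim : ∀ j < c, ∀ i, l j i ∈ Im := fun j hj i =>
    Finset.mem_image.2 ⟨(j, i), by simp [hj], rfl⟩
  refine ⟨f, fun x hx => ?_, fun i => ?_⟩
  · by_cases hxB : x ∈ B
    · simp only [f, if_pos hxB, if_pos (hB x hxB), h2 x hxB, hφ x (hper x hxB).1]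
      exact (hv _ (h1 x hxB) _).symm
    · have hxR : x ∈ T \ B := Finset.mem_sdiff.2 ⟨hx, hxB⟩
      simp only [f, if_neg hxB, if_neg (fun hh => hxB (hB.mem_iff.1 hh)), h2' x hxR]
      exact (hfix _ fun j hj i he => hlab (h' x) (h1' x hxR) (by rw [← he]; exact hlim j hj i)).symm
  · by_cases hi : i ∈ Im
    · obtain ⟨⟨j, k⟩, hjk, rfl⟩ := Finset.mem_image.1 hi
      simp only [Finset.mem_product, Finset.mem_range, Finset.mem_univ, and_true] at hjk
      -- inside the piece the fibres of `φ` are permuted cyclically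
      let piece := B.filter fun x => h x = j
      have hpc : piece.card = p ^ (σ + t) := h3 j hjk
      have hsucc : ∀ d : ZMod (p ^ σ), (piece.filter fun x => φ x = d + 1).card = (piece.filter fun x => φ x = d).card := by
        intro d
        refine (Finset.card_bij (fun x _ => W x) ?_ (fun x _ y _ hxy => W.injective hxy) ?_).symm
        · intro x hx
          simp only [piece, Finset.mem_filter] at hx ⊢
          exact ⟨⟨hB x hx.1.1, (h2 x hx.1.1).trans hx.1.2⟩, by rw [hφ x (hper x hx.1.1).1, hx.2]⟩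
        · intro y hy
          simp only [piece, Finset.mem_filter] at hy
          obtain ⟨x, rfl⟩ := W.surjective y
          have hxB : x ∈ B := hB.mem_iff.1 hy.1.1
          rw [hφ x (hper x hxB).1, add_left_inj] at hy
          exact ⟨x, by simp only [piece, Finset.mem_filter]; exact ⟨⟨hxB, (h2 x hxB) ▸ hy.1.2⟩, hy.2⟩, rfl⟩
      have hconst : ∀ d : ZMod (p ^ σ), (piece.filter fun x => φ x = d).card = (piece.filter fun x => φ x = 0).card := by
        intro d
        rw [← ZMod.natCast_zmod_val d]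
        induction d.val with
        | zero => rw [Nat.cast_zero]
        | succ n ih => rw [Nat.cast_succ, hsucc, ih]
      have hsum := Finset.card_eq_sum_card_fiberwise (s := piece) (t := (Finset.univ : Finset (ZMod (p ^ σ))))
        (f := φ) (fun x _ => Finset.mem_univ _)
      rw [hpc, Finset.sum_congr rfl (fun d _ => hconst d), Finset.sum_const, Finset.card_univ, ZMod.card, smul_eq_mul,
        pow_add] at hsum
      rw [Nat.eq_of_mul_eq_mul_left (pow_pos hp.pos σ) hsum, ← hconst k]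
      congr 1
      ext x
      simp only [piece, Finset.mem_filter, f]
      by_cases hxB : x ∈ B
      · simp only [hBT hxB, hxB, true_and, if_true]
        exact ⟨fun he => hinj _ (h1 x hxB) _ hjk _ _ he, fun ⟨e1, e2⟩ => by rw [e1, e2]⟩
      · simp only [hxB, false_and, iff_false, not_and, if_false]
        intro hxT he
        exact hlab _ (h1' x (Finset.mem_sdiff.2 ⟨hxT, hxB⟩)) (he ▸ hi)
    · have hi' : i ∈ Imᶜ := Finset.mem_compl.2 hi
      rw [← h3' (E ⟨i, hi'⟩).val (E ⟨i, hi'⟩).2]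
      congr 1
      ext x
      simp only [Finset.mem_filter, Finset.mem_sdiff, f]
      by_cases hxB : x ∈ B
      · simp only [hxB, not_true_eq_false, and_false, false_and, iff_false, not_and, if_true]
        exact fun _ he => hi (he ▸ hlim _ (h1 x hxB) _)
      · simp only [hxB, not_false_eq_true, and_true, if_false]
        refine and_congr_right fun hxT => ?_
        have hlt := h1' x (Finset.mem_sdiff.2 ⟨hxT, hxB⟩)
        simp only [lab', dif_pos hlt]
        constructor
        · intro he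
          have : E.symm ⟨h' x, hlt⟩ = ⟨i, hi'⟩ := Subtype.ext he
          rw [← this, Equiv.apply_symm_apply]
        · intro he
          have : (⟨h' x, hlt⟩ : Fin Imᶜ.card) = E ⟨i, hi'⟩ := Fin.ext he
          rw [this, Equiv.symm_apply_apply]

end CfsgLib.PElemPair
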