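import Cfsg.Agent.Lib.PElemPair.Core

/-!
# The main case: a cycle of length `p ^ M ≥ 5`
-/

set_option autoImplicit false

namespace CfsgLib.PElemPair

open Equiv

/-- The three triples of the model on nine points. -/
def nineLab (j : ℕ) (i : ZMod (3 ^ 1)) : ZMod 9 := (([[0, 1, 2], [3, 4, 5], [6, 8, 7]] : List (List (ZMod 9))).getD j []).getD i.val 0

theorem nineLab_inj : ∀ j < 3, ∀ j' < 3, ∀ i i', nineLab j i = nineLab j' i' → j = j' ∧ i = i' := by decide +kernel

theorem nineTriple_lab : ∀ j < 3, ∀ i, nineTriple (nineLab j i) = nineLab j (i + 1) := by decide +kernel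

theorem nineLab_surj : ∀ x : ZMod 9, ∃ j < 3, ∃ i, nineLab j i = x := by decide +kernel

/-- An odd permutation commuting with the three triples. -/
def nineFlip : Perm (ZMod 9) := swap 0 3 * swap 1 4 * swap 2 5

theorem exists_subset_mul {α : Type*} [Fintype α] [DecidableEq α] {W : Perm α} {p : ℕ} (hp : p.Prime) (k : ℕ)
    (A : Finset α) (hA : Inv W A) (hper : ∀ x ∈ A, per W x ∣ p ^ k) :
    ∀ c, c * p ^ k ≤ A.card → ∃ B ⊆ A, Inv W B ∧ B.card = c * p ^ k := by
  intro c
  induction c with
  | zero => exact fun _ => ⟨∅, Finset.empty_subset _, fun x hx => absurd hx (Finset.notMem_empty x), by simp⟩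
  | succ c ih =>
    intro hc
    rw [Nat.succ_mul] at hc
    obtain ⟨B, hBA, hB, hBc⟩ := ih (by omega)
    obtain ⟨C, hCA, hC, hCc⟩ := exists_subset hp k (A \ B) (hA.sdiff hB) (fun x hx => hper x (Finset.mem_sdiff.1 hx).1)
      (by rw [Finset.card_sdiff_of_subset hBA, hBc]; omega)
    refine ⟨B ∪ C, Finset.union_subset hBA (hCA.trans Finset.sdiff_subset), hB.union hC, ?_⟩
    rw [Finset.card_union_of_disjoint (Finset.disjoint_of_subset_right hCA Finset.disjoint_sdiff), hBc, hCc, Nat.succ_mul]

/-- The bijective case. -/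
theorem bij_signs {p a r : ℕ} [NeZero a] [NeZero r] (ha : a = r) (W : Perm (ZMod a)) (f : ZMod a → ZMod r) (v : Perm (ZMod r))
    (hf : ∀ x, f (W x) = v (f x)) (hfib : ∀ i, ((Finset.univ : Finset (ZMod a)).filter fun x => f x = i).card = 1)
    (hmod : ∀ s : ℤˣ, ∃ ρ : Perm (ZMod r), Perm.sign ρ = s ∧ Good p (rot r) (ρ * v * ρ⁻¹)) (s : ℤˣ) :
    ∃ g : Perm (ZMod a), Perm.sign g = s ∧ Good p (rot a) (g * W * g⁻¹) := by
  subst ha
  have hbij : Function.Bijective f := by
    refine Finite.injective_iff_bijective.1 fun x y h => ?_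
    exact Finset.card_le_one.1 (hfib (f x)).le x (by simp) y (by simp [h])
  let g0 : Perm (ZMod a) := Equiv.ofBijective f hbij
  have hc : g0 * W * g0⁻¹ = v := by
    refine mul_inv_eq_iff_eq_mul.2 (Equiv.ext fun x => ?_)
    exact hf x
  obtain ⟨ρ, hρ, hgood⟩ := hmod (s * Perm.sign g0)
  refine ⟨ρ * g0, ?_, ?_⟩
  · rw [map_mul, hρ, mul_assoc, Int.units_mul_self, mul_one]
  · rw [show ρ * g0 * W * (ρ * g0)⁻¹ = ρ * (g0 * W * g0⁻¹) * ρ⁻¹ by group, hc]
    exact hgood

variable {p : ℕ} [hp : Fact p.Prime]

/-- The inverse rotation read through the labels `i ↦ -i`. -/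
theorem prime_labels_perm {σe : ℕ} (hσ : p ^ σe = p) (ρ : Perm (ZMod p)) (i : ZMod (p ^ σe)) :
    (ρ * (rot p)⁻¹ * ρ⁻¹) (ρ (-(ZMod.ringEquivCongr hσ i))) = ρ (-(ZMod.ringEquivCongr hσ (i + 1))) := by
  rw [Perm.mul_apply, Perm.mul_apply, Perm.inv_def ρ, Equiv.symm_apply_apply, Perm.inv_def, map_add, map_one]
  refine congrArg ρ ((Equiv.symm_apply_eq _).2 ?_)
  rw [rot_apply]
  ring

/-- The main case. -/
theorem cycle_case (hp3 : 3 ≤ p) {M a : ℕ} [NeZero a] (ha : a = p ^ M) (ha5 : 5 ≤ a) (W : Perm (ZMod a))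
    (hW : ∃ e, W ^ p ^ e = 1) (hW1 : W ≠ 1) (s : ℤˣ) :
    ∃ g : Perm (ZMod a), Perm.sign g = s ∧ Good p (rot a) (g * W * g⁻¹) := by
  classical
  have hpp : p.Prime := hp.out
  have hper : ∀ x, ∃ i ≤ M, per W x = p ^ i := by
    intro x
    obtain ⟨e, he⟩ := per_dvd_pow W (x := x) hW
    obtain ⟨i, -, hi⟩ := (Nat.dvd_prime_pow hpp).1 he
    refine ⟨i, ?_, hi⟩
    refine (Nat.pow_le_pow_iff_right hpp.one_lt).1 ?_
    rw [← hi, ← ha, ← card_orb W x]
    exact (Finset.card_le_univ _).trans_eq (ZMod.card a)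
  have hM1 : 1 ≤ M := by
    rcases Nat.eq_zero_or_pos M with rfl | h
    · rw [ha, pow_zero] at ha5; omega
    · exact h
  have hmoved : ∀ x, W x ≠ x → p ∣ per W x := by
    intro x hx
    obtain ⟨i, -, hi⟩ := hper x
    rcases Nat.eq_zero_or_pos i with rfl | h
    · exact absurd ((per_eq_one W).1 (hi.trans (pow_zero p))) hx
    · rw [hi]; exact dvd_pow_self p h.ne'
  have huniv : Inv W (Finset.univ : Finset (ZMod a)) := fun x _ => Finset.mem_univ _
  have hTu : ∀ x : ZMod a, x ∈ (Finset.univ : Finset (ZMod a)) ↔ W x ∈ (Finset.univ : Finset (ZMod a)) := by simp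
  -- pairs with the same label
  have pigeon : ∀ {r F : ℕ} [NeZero r] (T : Finset (ZMod a)) (f : ZMod a → ZMod r),
      (∀ i, (T.filter fun x => f x = i).card = F) → 2 ≤ F →
      ∃ x ∈ T, ∃ y ∈ T, x ≠ y ∧ (f x = f y ∨ (W x = x ∧ W y = y)) := by
    intro r F _ T f hfib hF
    obtain ⟨x, hx, y, hy, hxy⟩ := Finset.one_lt_card.1 (show 1 < (T.filter fun x => f x = 0).card by rw [hfib]; omega)
    rw [Finset.mem_filter] at hx hy
    exact ⟨x, hx.1, y, hy.1, hxy, Or.inl (hx.2.trans hy.2.symm)⟩
  by_cases hfull : ∀ x, W x ≠ x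
  · rcases Nat.lt_or_ge 4 p with h5 | h5
    · -- a quotient of degree `p`
      obtain ⟨ρ, -, hρ⟩ := prime_models h5 1
      obtain ⟨t, rfl⟩ : ∃ t, M = t + 1 := ⟨M - 1, by omega⟩
      rcases Nat.eq_zero_or_pos t with rfl | ht
      · obtain ⟨f, hf, hfib⟩ := exists_labels (W := W) (σ := 1) (t := 0) (c := 1) (r := p) hpp Finset.univ Finset.univ
          (Finset.Subset.refl _) huniv huniv (fun x _ => ⟨by rw [pow_one]; exact hmoved x (hfull x), by
            obtain ⟨i, hi, he⟩ := hper x
            rw [he]; exact pow_dvd_pow p (by simpa using hi)⟩)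
          (by rw [Finset.card_univ, ZMod.card, ha, one_mul]) (fun x _ h => absurd (Finset.mem_univ x) h)
          (by rw [Finset.card_univ, ZMod.card, ha]; simp) (fun _ i => (1 : Perm (ZMod p)) (-(ZMod.ringEquivCongr (pow_one p) i)))
          (fun j hj j' hj' i i' h => ⟨by omega, (ZMod.ringEquivCongr (pow_one p)).injective (neg_injective h)⟩)
          ((rot p)⁻¹) (fun j _ i => by simpa using prime_labels_perm (pow_one p) 1 i)
          (fun x hx => absurd (show _ = x by
            show (1 : Perm (ZMod p)) (-(ZMod.ringEquivCongr (pow_one p) ((ZMod.ringEquivCongr (pow_one p)).symm (-x)))) = x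
            rw [RingEquiv.apply_symm_apply, neg_neg, Perm.one_apply]) (hx 0 one_pos ((ZMod.ringEquivCongr (pow_one p)).symm (-x))))
        exact bij_signs (ha.trans (pow_one p)) W f ((rot p)⁻¹) (fun x => hf x (Finset.mem_univ x))
          (fun i => (hfib i).trans (pow_zero p)) (fun s => prime_models h5 s) s
      · obtain ⟨f, hf, hfib⟩ := exists_labels (W := W) (σ := 1) (t := t) (c := 1) (r := p) hpp Finset.univ Finset.univ
          (Finset.Subset.refl _) huniv huniv (fun x _ => ⟨by rw [pow_one]; exact hmoved x (hfull x), by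
            obtain ⟨i, hi, he⟩ := hper x
            rw [he]; exact pow_dvd_pow p (by omega)⟩)
          (by rw [Finset.card_univ, ZMod.card, ha, one_mul, Nat.add_comm]) (fun x _ h => absurd (Finset.mem_univ x) h)
          (by rw [Finset.card_univ, ZMod.card, ha, pow_succ']) (fun _ i => ρ (-(ZMod.ringEquivCongr (pow_one p) i)))
          (fun j hj j' hj' i i' h => ⟨by omega, (ZMod.ringEquivCongr (pow_one p)).injective (neg_injective (ρ.injective h))⟩)
          (ρ * (rot p)⁻¹ * ρ⁻¹) (fun j _ i => prime_labels_perm (pow_one p) ρ i)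
          (fun x hx => absurd (show _ = x by
            show ρ (-(ZMod.ringEquivCongr (pow_one p) ((ZMod.ringEquivCongr (pow_one p)).symm (-(ρ⁻¹ x))))) = x
            rw [RingEquiv.apply_symm_apply, neg_neg, Perm.inv_def, Equiv.apply_symm_apply])
            (hx 0 one_pos ((ZMod.ringEquivCongr (pow_one p)).symm (-(ρ⁻¹ x)))))
        exact lift_signs (q := 1) (m := a) (F := p ^ t) (by rw [one_mul]) one_pos (by rw [ha, pow_succ']) W Finset.univ
          hTu (fun x h => absurd (Finset.mem_univ x) h) (by rw [Finset.card_univ, ZMod.card]) f hfib _ hf hρ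
          (pigeon Finset.univ f hfib (le_trans hpp.two_le (Nat.le_self_pow ht.ne' p))) s
    · -- quotients of degree nine
      obtain rfl : p = 3 := by
        rcases Nat.lt_or_ge p 4 with h | h
        · omega
        · obtain rfl : p = 4 := by omega
          norm_num at hpp
      obtain ⟨t, rfl⟩ : ∃ t, M = t + 2 := by
        refine ⟨M - 2, ?_⟩
        rcases Nat.lt_or_ge M 2 with h | h
        · obtain rfl : M = 1 := by omega
          norm_num [ha] at ha5
        · omega
      by_cases hbig : ∀ x, per W x ∣ 3 ^ (t + 1)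
      · obtain ⟨f, hf, hfib⟩ := exists_labels (W := W) (σ := 1) (t := t) (c := 3) (r := 9) hpp Finset.univ Finset.univ
          (Finset.Subset.refl _) huniv huniv (fun x _ => ⟨by rw [pow_one]; exact hmoved x (hfull x), by
            rw [Nat.add_comm]; exact hbig x⟩)
          (by rw [Finset.card_univ, ZMod.card, ha]; ring) (fun x _ h => absurd (Finset.mem_univ x) h)
          (by rw [Finset.card_univ, ZMod.card, ha]; ring) nineLab nineLab_inj nineTriple nineTriple_lab
          (fun x hx => by obtain ⟨j, hj, i, hi⟩ := nineLab_surj x; exact absurd hi (hx j hj i))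
        rcases Nat.eq_zero_or_pos t with rfl | ht
        · refine bij_signs (r := 9) (ha.trans (by norm_num)) W f nineTriple (fun x => hf x (Finset.mem_univ x))
            (fun i => (hfib i).trans (pow_zero 3)) (fun s => ?_) s
          rcases Int.units_eq_one_or s with rfl | rfl
          · exact ⟨1, map_one _, by rw [one_mul, inv_one, mul_one]; exact good_nineTriple⟩
          · refine ⟨nineFlip, by decide +kernel, ?_⟩
            rw [show nineFlip * nineTriple * nineFlip⁻¹ = nineTriple by decide +kernel]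
            exact good_nineTriple
        · exact lift_signs (q := 1) (m := a) (F := 3 ^ t) (by rw [one_mul]) one_pos (by rw [ha]; ring) W Finset.univ
            hTu (fun x h => absurd (Finset.mem_univ x) h) (by rw [Finset.card_univ, ZMod.card]) f hfib _ hf good_nineTriple
            (pigeon Finset.univ f hfib (le_trans (by norm_num) (Nat.le_self_pow ht.ne' 3))) s
      · -- a single cycle
        push Not at hbig
        obtain ⟨x0, hx0⟩ := hbig
        have hx0' : per W x0 = a := by
          obtain ⟨i, hi, he⟩ := hper x0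
          rcases Nat.lt_or_ge i (t + 2) with h | h
          · exact absurd (he ▸ pow_dvd_pow 3 (show i ≤ t + 1 by omega)) hx0
          · rw [he, ha, show i = t + 2 by omega]
        have hall : ∀ x, per W x = a := by
          intro x
          have hxo : x ∈ orb W x0 := by
            rw [Finset.eq_univ_of_card (orb W x0) (by rw [card_orb, hx0', ZMod.card])]
            exact Finset.mem_univ x
          obtain ⟨i, rfl⟩ := (mem_orb_iff W).1 hxo
          refine le_antisymm ?_ ((le_of_eq hx0'.symm).trans (Nat.le_of_dvd (per_pos W _) ((pow_eq_iff W).1 ?_)))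
          · rw [← card_orb]; exact (Finset.card_le_univ _).trans_eq (ZMod.card a)
          · refine (W ^ i).injective ?_
            rw [← Perm.mul_apply, ← pow_add, Nat.add_comm, pow_add, Perm.mul_apply, (pow_eq_iff W).2 dvd_rfl]
        obtain ⟨ρ, -, hρ⟩ := nine_models 1
        have h9 : 3 ^ 2 = 9 := by norm_num
        have main : ∀ ρ : Perm (ZMod 9), ∃ f : ZMod a → ZMod 9, (∀ x ∈ (Finset.univ : Finset (ZMod a)),
            f (W x) = (ρ * rot 9 * ρ⁻¹) (f x)) ∧ ∀ i, ((Finset.univ : Finset (ZMod a)).filter fun x => f x = i).card = 3 ^ t := by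
          intro ρ
          refine exists_labels (W := W) (σ := 2) (t := t) (c := 1) (r := 9) hpp Finset.univ Finset.univ
            (Finset.Subset.refl _) huniv huniv (fun x _ => ?_) ?_ (fun x _ h => absurd (Finset.mem_univ x) h) ?_
            (fun _ i => ρ (ZMod.ringEquivCongr h9 i))
            (fun j hj j' hj' i i' h => ⟨by omega, (ZMod.ringEquivCongr h9).injective (ρ.injective h)⟩)
            (ρ * rot 9 * ρ⁻¹) (fun j _ i => ?_) (fun x hx => absurd ?_ (hx 0 one_pos ((ZMod.ringEquivCongr h9).symm (ρ⁻¹ x))))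
          · rw [hall, ha, Nat.add_comm 2 t]; exact ⟨pow_dvd_pow 3 (by omega), dvd_rfl⟩
          · rw [Finset.card_univ, ZMod.card, ha, one_mul, Nat.add_comm 2 t]
          · rw [Finset.card_univ, ZMod.card, ha]; ring
          · simp [Perm.mul_apply, rot_apply]
          · rw [RingEquiv.apply_symm_apply, Perm.inv_def, Equiv.apply_symm_apply]
        rcases Nat.eq_zero_or_pos t with rfl | ht
        · obtain ⟨f, hf, hfib⟩ := main 1
          refine bij_signs (r := 9) (ha.trans (by norm_num)) W f (rot 9) (fun x => ?_)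
            (fun i => (hfib i).trans (pow_zero 3)) nine_models s
          rw [hf x (Finset.mem_univ x), one_mul, inv_one, mul_one]
        · obtain ⟨f, hf, hfib⟩ := main ρ
          exact lift_signs (q := 1) (m := a) (F := 3 ^ t) (by rw [one_mul]) one_pos (by rw [ha]; ring) W Finset.univ
            hTu (fun x h => absurd (Finset.mem_univ x) h) (by rw [Finset.card_univ, ZMod.card]) f hfib _ hf hρ
            (pigeon Finset.univ f hfib (le_trans (by norm_num) (Nat.le_self_pow ht.ne' 3))) s
  · -- some fixed point: a block and a quotient of degree `p ^ 2`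
    push Not at hfull
    obtain ⟨z, hz⟩ := hfull
    set N := W.support.card with hN
    have hNa : N < a := by
      refine lt_of_lt_of_eq (Finset.card_lt_card (Finset.ssubset_univ_iff.2 fun h => ?_)) (by rw [Finset.card_univ, ZMod.card])
      exact Perm.mem_support.1 (h ▸ Finset.mem_univ z) hz
    obtain ⟨x0, hx0⟩ : ∃ x, W x ≠ x := by
      by_contra h
      push Not at h
      exact hW1 (Equiv.ext h)
    have hp_le : p ≤ N := by
      refine le_trans (Nat.le_of_dvd (per_pos W x0) (hmoved x0 hx0)) ?_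
      rw [← card_orb W x0]
      exact Finset.card_le_card (inv_support.orb_subset (Perm.mem_support.2 hx0))
    obtain ⟨l, hl⟩ : ∃ l, l = Nat.log p N := ⟨_, rfl⟩
    have hl1 : 1 ≤ l := hl ▸ Nat.le_log_of_pow_le hpp.one_lt (by rwa [pow_one])
    have hlN : p ^ l ≤ N := hl ▸ Nat.pow_log_le_self p (by omega)
    have hNl : N < p ^ (l + 1) := hl ▸ Nat.lt_pow_succ_log_self hpp.one_lt N
    have hlM : l + 1 ≤ M := by
      by_contra h
      have := Nat.pow_le_pow_right hpp.pos (show M ≤ l by omega)
      omega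
    have hperN : ∀ x, per W x ∣ p ^ l := by
      intro x
      obtain ⟨i, -, hi⟩ := hper x
      rw [hi]
      refine pow_dvd_pow p ?_
      by_cases hx : W x = x
      · rw [(per_eq_one W).2 hx] at hi
        rcases (Nat.pow_eq_one.1 hi.symm) with h | h
        · omega
        · omega
      · by_contra hli
        have h1 : per W x ≤ N := by
          rw [← card_orb W x]
          exact Finset.card_le_card (inv_support.orb_subset (Perm.mem_support.2 hx))
        have h2 := Nat.pow_le_pow_right hpp.pos (show l + 1 ≤ i by omega)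
        omega
    obtain ⟨t, rfl⟩ : ∃ t, l = t + 1 := ⟨l - 1, by omega⟩
    obtain ⟨q', rfl⟩ : ∃ q', M = t + 2 + q' := ⟨M - (t + 2), by omega⟩
    obtain ⟨T, hsT, -, hTc⟩ := Finset.exists_subsuperset_card_eq (s := W.support) (t := Finset.univ)
      (n := p ^ (t + 2)) (Finset.subset_univ _) hNl.le (by
        rw [Finset.card_univ, ZMod.card, ha]; exact Nat.pow_le_pow_right hpp.pos (by omega))
    have hTinv : Inv W T := by
      intro x hx
      by_cases h : W x = x
      · rwa [h]
      · exact hsT (inv_support x (Perm.mem_support.2 h))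
    set c := N / p ^ (t + 1) with hc
    have hc0 : 1 ≤ c := (Nat.one_le_div_iff (pow_pos hpp.pos _)).2 hlN
    have hcp : c < p := by
      rw [hc, Nat.div_lt_iff_lt_mul (pow_pos hpp.pos _), ← pow_succ']
      exact hNl
    have hcN : c * p ^ (t + 1) ≤ N := Nat.div_mul_le_self _ _
    obtain ⟨B, hBs, hB, hBc⟩ := exists_subset_mul hpp (t + 1) W.support inv_support (fun x _ => hperN x) c hcN
    have hrest : ∀ x ∈ T, x ∉ B → per W x ∣ p ^ t := by
      intro x hxT hxB
      by_cases hx : W x = x
      · rw [(per_eq_one W).2 hx]; exact one_dvd _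
      · obtain ⟨i, -, hi⟩ := hper x
        rw [hi]
        refine pow_dvd_pow p ?_
        by_contra hti
        have h2 : p ^ (t + 1) ≤ p ^ i := Nat.pow_le_pow_right hpp.pos (by omega)
        have h1 := Finset.card_le_card ((inv_support.sdiff hB).orb_subset
          (Finset.mem_sdiff.2 ⟨Perm.mem_support.2 hx, hxB⟩))
        rw [card_orb, Finset.card_sdiff_of_subset hBs, hBc, hi] at h1
        have h3 : N < (c + 1) * p ^ (t + 1) := by
          rw [hc, Nat.succ_mul]
          have := Nat.div_add_mod' N (p ^ (t + 1))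
          have := Nat.mod_lt N (show 0 < p ^ (t + 1) from pow_pos hpp.pos _)
          omega
        rw [Nat.succ_mul] at h3
        omega
    haveI : NeZero (p ^ 2) := ⟨pow_ne_zero 2 hpp.ne_zero⟩
    haveI : NeZero (p ^ (t + 2)) := ⟨pow_ne_zero _ hpp.ne_zero⟩
    let L : ℕ → ZMod (p ^ 1) → ZMod (p ^ 2) := fun j i => lab p (p ^ 2) j (ZMod.ringEquivCongr (pow_one p) i)
    obtain ⟨v0, hv, hfix⟩ := exists_blockPerm (r := p ^ 2) (c := c) (fun j (i : ZMod p) => lab p (p ^ 2) j i)
      (fun j hj j' hj' i i' h => lab_inj rfl hcp.le hj hj' i i' h)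
    obtain ⟨f, hf, hfib⟩ := exists_labels (W := W) (σ := 1) (t := t) (c := c) (r := p ^ 2) hpp T B
      (hBs.trans hsT) hTinv hB
      (fun x hx => ⟨by rw [pow_one]; exact hmoved x (Perm.mem_support.1 (hBs hx)), by rw [Nat.add_comm]; exact hperN x⟩)
      (by rw [hBc, Nat.add_comm 1 t]) hrest (by rw [hTc, ← pow_add, Nat.add_comm 2 t]) L
      (fun j hj j' hj' i i' h => (lab_inj rfl hcp.le hj hj' _ _ h).imp id fun h => (ZMod.ringEquivCongr (pow_one p)).injective h)
      v0 (fun j hj i => by show _ = lab p (p ^ 2) j _; rw [map_add, map_one]; exact hv j hj _)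
      (fun x hx => hfix x fun j hj i h => hx j hj ((ZMod.ringEquivCongr (pow_one p)).symm i) (by
        show lab p (p ^ 2) j _ = x; rw [RingEquiv.apply_symm_apply]; exact h))
    refine lift_signs (q := p ^ q') (m := p ^ (t + 2)) (F := p ^ t) (by rw [ha, ← pow_add, Nat.add_comm q'])
      (pow_pos hpp.pos _) (by rw [← pow_add, Nat.add_comm 2 t]) W T (fun x => ⟨hTinv x, hTinv.mem_iff.1⟩)
      (fun x hx => by by_contra h; exact hx (hsT (Perm.mem_support.2 h))) hTc f hfib v0 hf
      (blocks_good rfl hc0 hcp (by omega) v0 hv hfix) ?_ s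
    rcases Nat.eq_zero_or_pos t with rfl | ht
    · -- two fixed points in `T`
      have hcard : 2 ≤ (T \ W.support).card := by
        rw [Finset.card_sdiff_of_subset hsT, hTc, ← hN]
        have hNB : N = B.card := by
          refine le_antisymm ?_ (Finset.card_le_card hBs)
          refine Finset.card_le_card fun x hx => ?_
          by_contra hxB
          have := hrest x (hsT hx) hxB
          rw [pow_zero, Nat.dvd_one, per_eq_one] at this
          exact Perm.mem_support.1 hx this
        have h4 : (c + 1) * p ≤ p * p := Nat.mul_le_mul_right _ hcp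
        rw [Nat.succ_mul] at h4
        rw [hNB, hBc, pow_one, show p ^ (0 + 2) = p * p from sq p]
        omega
      obtain ⟨x, hx, y, hy, hxy⟩ := Finset.one_lt_card.1 hcard
      rw [Finset.mem_sdiff, Perm.notMem_support] at hx hy
      exact ⟨x, hx.1, y, hy.1, hxy, Or.inr ⟨hx.2, hy.2⟩⟩
    · exact pigeon T f hfib (le_trans hpp.two_le (Nat.le_self_pow ht.ne' p))

end CfsgLib.PElemPair
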