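import Cfsg.Agent.Lib.PElemPair.Small

/-!
# Two `p`-elements of an alternating group
-/

set_option autoImplicit false

namespace CfsgLib.PElemPair

open Equiv

variable {α β : Type*} [Fintype α] [DecidableEq α] [Fintype β] [DecidableEq β]

/-- An even conjugator from good conjugators of both signs on an invariant piece. -/
theorem embed {p : ℕ} (u w : Perm α) (ι : β → α) (hι : Function.Injective ι) (u0 : Perm β)
    (hu : ∀ y, u (ι y) = ι (u0 y)) (T : Finset α) (hT : ∀ x, x ∈ T ↔ w x ∈ T) (e0 : ↥T ≃ β)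
    (h : ∀ s : ℤˣ, ∃ g : Perm β, Perm.sign g = s ∧
      Good p u0 (g * e0.permCongr (w.subtypePerm fun x => (hT x).symm) * g⁻¹)) :
    ∃ G : Perm α, Perm.sign G = 1 ∧ Good p u (G * w * G⁻¹) := by
  classical
  let E : {x // x ∈ T} ≃ {x // x ∈ Set.range ι} := e0.trans (Equiv.ofInjective _ hι)
  let G0 : Perm α := E.extendSubtype
  have hG0 : ∀ x : ↥T, G0 x = ι (e0 x) := fun x => Equiv.extendSubtype_apply_of_mem E x x.2
  obtain ⟨g, hg, hgood⟩ := h (Perm.sign G0)
  let gT : Perm ↥T := e0.symm.permCongr g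
  let G : Perm α := G0 * Perm.ofSubtype gT
  have hG : ∀ x : ↥T, G x = ι (g (e0 x)) := by
    intro x
    show G0 (Perm.ofSubtype gT x) = _
    rw [Perm.ofSubtype_apply_coe, hG0]
    simp [gT]
  refine ⟨G, ?_, ?_⟩
  · show Perm.sign (G0 * Perm.ofSubtype gT) = 1
    rw [map_mul, Perm.sign_ofSubtype, Perm.sign_permCongr, hg]
    exact Int.units_mul_self _
  refine Good.of_embedding (q := 1) ι hι (fun y => by rw [pow_one]; exact hu y) (fun y => ?_)
    (fun y j h1 h2 => absurd h2 (by omega)) one_pos hgood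
  have hGi : G⁻¹ (ι y) = (e0.symm (g⁻¹ y) : α) := by
    rw [Perm.inv_def G, Equiv.symm_apply_eq, hG, Equiv.apply_symm_apply, Perm.inv_def g, Equiv.apply_symm_apply]
  show G (w (G⁻¹ (ι y))) = _
  rw [hGi]
  exact hG (w.subtypePerm (fun x => (hT x).symm) (e0.symm (g⁻¹ y)))

/-- Periods of a restriction. -/
theorem per_permCongr (w : Perm α) (T : Finset α) (hT : ∀ x, x ∈ T ↔ w x ∈ T) (e0 : ↥T ≃ β) (n : ℕ) (y : β) :
    ((e0.permCongr (w.subtypePerm fun x => (hT x).symm)) ^ n) y = y ↔ (w ^ n) (e0.symm y : α) = (e0.symm y : α) := by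
  set W := e0.permCongr (w.subtypePerm fun x => (hT x).symm) with hW
  have key : ∀ n, ((e0.symm ((W ^ n) y) : ↥T) : α) = (w ^ n) (e0.symm y : α) := by
    intro n
    induction n with
    | zero => simp
    | succ n ih =>
      rw [pow_succ' W, Perm.mul_apply, pow_succ' w, Perm.mul_apply, ← ih]
      simp [hW]
  constructor
  · intro h; rw [← key, h]
  · intro h
    rw [← key] at h
    exact e0.symm.injective (Subtype.ext h)

/-- A labelled model of an invariant set. -/
theorem triple_model (w : Perm α) (T : Finset α) (hT : Inv w T) (hper : ∀ x, per w x ∣ 3) (m c : ℕ) [NeZero m]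
    (hTc : T.card = m) (hc : c * 3 ≤ m) (B : Finset α) (hBT : B ⊆ T) (hB : Inv w B) (hBc : B.card = c * 3)
    (hBmove : ∀ x ∈ B, w x ≠ x) (hfixed : ∀ x ∈ T, x ∉ B → w x = x) (v : Perm (ZMod m))
    (hv : ∀ j < c, ∀ i, v (triLab m j i) = triLab m j (i + 1))
    (hvfix : ∀ x, (∀ j < c, ∀ i, triLab m j i ≠ x) → v x = x) :
    ∃ e : ↥T ≃ ZMod m, e.permCongr (w.subtypePerm fun x => hT.mem_iff) = v := by
  classical
  haveI : Fact (Nat.Prime 3) := ⟨Nat.prime_three⟩
  have hinj : ∀ j < c, ∀ j' < c, ∀ i i', triLab m j i = triLab m j' i' → j = j' ∧ i = i' := by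
    intro j hj j' hj' i i' h
    have hi := ZMod.val_lt i
    have hi' := ZMod.val_lt i'
    rw [triLab, triLab, ZMod.natCast_eq_natCast_iff', Nat.mod_eq_of_lt (by omega), Nat.mod_eq_of_lt (by omega)] at h
    exact ⟨by omega, ZMod.val_injective _ (by omega)⟩
  obtain ⟨f, hf, hfib⟩ := exists_labels (W := w) (p := 3) (σ := 1) (t := 0) (c := c) (r := m) Nat.prime_three T B hBT hT hB
    (fun x hx => ⟨by
      rcases (Nat.dvd_prime Nat.prime_three).1 (hper x) with h | h
      · exact absurd ((per_eq_one w).1 h) (hBmove x hx)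
      · rw [h, pow_one], by simpa using hper x⟩)
    (by rw [hBc, pow_one]) (fun x hx hxB => by rw [pow_zero, (per_eq_one w).2 (hfixed x hx hxB)])
    (by rw [pow_zero, mul_one, hTc]) (triLab m) hinj v hv hvfix
  have hbij : Function.Bijective fun x : ↥T => f x := by
    refine (Fintype.bijective_iff_injective_and_card _).2 ⟨fun x y h => Subtype.ext ?_, by simp [hTc]⟩
    exact Finset.card_le_one.1 ((hfib (f x)).trans (pow_zero 3)).le x (by simp) y (by
      simp only [Finset.mem_filter, y.2, true_and]; exact h.symm)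
  refine ⟨Equiv.ofBijective _ hbij, Equiv.ext fun y => ?_⟩
  obtain ⟨x, rfl⟩ := (Equiv.ofBijective _ hbij).surjective y
  rw [Equiv.permCongr_apply, Equiv.symm_apply_apply]
  exact hf x x.2

/-- The even conjugator. -/
theorem pair_of_cycle {p : ℕ} [Fact p.Prime] (hp3 : 3 ≤ p) {M a : ℕ} (ha : a = p ^ M) (ha5 : 5 ≤ a) (u w : Perm α)
    (x0 : α) (hx0 : per u x0 = a) (hw : ∃ e, w ^ p ^ e = 1) (hmax : ∀ x, per w x ∣ a) (hw1 : w ≠ 1) :
    ∃ G : Perm α, Perm.sign G = 1 ∧ Good p u (G * w * G⁻¹) := by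
  classical
  have hp : p.Prime := Fact.out
  haveI : NeZero a := ⟨by omega⟩
  have hcard : a ≤ Fintype.card α := by
    rw [← hx0, ← card_orb]; exact Finset.card_le_univ _
  obtain ⟨T, hTinv, hTc, x1, hx1, hx1'⟩ : ∃ T : Finset α, Inv w T ∧ T.card = a ∧ ∃ x ∈ T, w x ≠ x := by
    by_cases hN : a ≤ w.support.card
    · obtain ⟨B, hBs, hB, hBc⟩ := exists_subset hp M w.support inv_support (fun x _ => ha ▸ hmax x) (ha ▸ hN)
      obtain ⟨x, hx⟩ := Finset.card_pos.1 (show 0 < B.card by rw [hBc]; exact pow_pos hp.pos M)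
      exact ⟨B, hB, hBc.trans ha.symm, x, hx, Perm.mem_support.1 (hBs hx)⟩
    · obtain ⟨T, hsT, -, hTc⟩ := Finset.exists_subsuperset_card_eq (s := w.support) (t := Finset.univ) (n := a)
        (Finset.subset_univ _) (by omega) (by rw [Finset.card_univ]; exact hcard)
      obtain ⟨x, hx⟩ : ∃ x, w x ≠ x := by
        by_contra h; push Not at h; exact hw1 (Equiv.ext h)
      refine ⟨T, fun y hy => ?_, hTc, x, hsT (Perm.mem_support.2 hx), hx⟩
      by_cases h : w y = y
      · rwa [h]
      · exact hsT (inv_support y (Perm.mem_support.2 h))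
  let e0 : ↥T ≃ ZMod a := Fintype.equivOfCardEq (by rw [Fintype.card_coe, hTc, ZMod.card])
  have hT : ∀ x, x ∈ T ↔ w x ∈ T := fun x => hTinv.mem_iff.symm
  set W := e0.permCongr (w.subtypePerm fun x => (hT x).symm) with hW
  refine embed u w (fun i : ZMod a => (u ^ i.val) x0) ?_ (rot a) ?_ T hT e0 fun s => cycle_case hp3 ha ha5 W ?_ ?_ s
  · intro i j h
    refine ZMod.val_injective a ?_
    have hi : i.val < per u x0 := hx0 ▸ ZMod.val_lt i
    have hj : j.val < per u x0 := hx0 ▸ ZMod.val_lt j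
    have := card_orb u x0
    rw [orb] at this
    exact Finset.injOn_of_card_image_eq (by rw [this, Finset.card_range]) (Finset.mem_coe.2 (Finset.mem_range.2 hi))
      (Finset.mem_coe.2 (Finset.mem_range.2 hj)) h
  · intro i
    show u ((u ^ i.val) x0) = (u ^ (rot a i).val) x0
    rw [← Perm.mul_apply, ← pow_succ', rot_apply, ZMod.val_add, ZMod.val_one_eq_one_mod, Nat.add_mod_mod]
    conv_lhs => rw [← Nat.mod_add_div (i.val + 1) a, pow_add, Perm.mul_apply,
      (pow_eq_iff u (n := a * ((i.val + 1) / a)) (x := x0)).2 (by rw [hx0]; exact dvd_mul_right _ _)]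
  · obtain ⟨e, he⟩ := hw
    exact ⟨e, Equiv.ext fun y => (per_permCongr w T hT e0 _ y).2 (by rw [he]; rfl)⟩
  · intro h
    have := (per_permCongr w T hT e0 1 (e0 ⟨x1, hx1⟩)).1 (by rw [pow_one, ← hW, h]; rfl)
    rw [pow_one, Equiv.symm_apply_apply] at this
    exact hx1' this

/-- Elements with cycles of length three only. -/
theorem pair_of_three (hn : 5 ≤ Fintype.card α) (u w : Perm α) (hu : ∀ x, per u x ∣ 3) (hw : ∀ x, per w x ∣ 3)
    (hu1 : u ≠ 1) (hw1 : w ≠ 1) : ∃ G : Perm α, Perm.sign G = 1 ∧ Good 3 u (G * w * G⁻¹) := by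
  classical
  -- choose the model of a permutation
  have hdiv : ∀ z : Perm α, (∀ x, per z x ∣ 3) → ∀ A : Finset α, A ⊆ z.support → Inv z A → ∀ k, k * 3 ≤ A.card →
      ∃ B ⊆ A, Inv z B ∧ B.card = k * 3 := by
    intro z hz A _ hA k hk
    have := exists_subset_mul Nat.prime_three 1 A hA (fun x _ => by rw [pow_one]; exact hz x) k (by rwa [pow_one])
    simpa using this
  have hsupp : ∀ z : Perm α, (∀ x, per z x ∣ 3) → z ≠ 1 → z.support.card = 3 ∨ 6 ≤ z.support.card := by
    intro z hz hz1
    obtain ⟨x, hx⟩ : ∃ x, z x ≠ x := by by_contra h; push Not at h; exact hz1 (Equiv.ext h)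
    have h3 : ∀ y, z y ≠ y → per z y = 3 := fun y hy => by
      rcases (Nat.dvd_prime Nat.prime_three).1 (hz y) with h | h
      · exact absurd ((per_eq_one z).1 h) hy
      · exact h
    have hs := inv_support.orb_subset (Perm.mem_support.2 hx)
    by_cases heq : z.support ⊆ orb z x
    · left
      rw [Finset.Subset.antisymm heq hs, card_orb, h3 x hx]
    · right
      obtain ⟨y, hy, hyo⟩ := Finset.not_subset.1 heq
      have hd : Disjoint (orb z x) (orb z y) := by
        rw [Finset.disjoint_left]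
        intro a ha ha'
        obtain ⟨i, rfl⟩ := (mem_orb_iff z).1 ha'
        have : ∀ i, (z ^ i) y ∈ orb z x → y ∈ orb z x := by
          intro i
          induction i with
          | zero => intro h; simpa using h
          | succ i ih => intro h; rw [pow_succ', Perm.mul_apply] at h; exact ih ((orb_inv z x).mem_iff.1 h)
        exact hyo (this i ha)
      have := Finset.card_le_card (Finset.union_subset hs (inv_support.orb_subset hy))
      rw [Finset.card_union_of_disjoint hd, card_orb, card_orb, h3 x hx, h3 y (Perm.mem_support.1 hy)] at this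
      omega
  by_cases h5 : Fintype.card α = 5
  · -- five points
    have mk : ∀ z : Perm α, ∀ hz : ∀ x, per z x ∣ 3, z ≠ 1 →
        ∃ e : ↥(Finset.univ : Finset α) ≃ ZMod 5, e.permCongr (z.subtypePerm fun x => by simp) = tri5 := by
      intro z hz hz1
      have hs : z.support.card = 3 := by
        rcases hsupp z hz hz1 with h | h
        · exact h
        · have := z.support.card_le_univ; omega
      exact triple_model z Finset.univ (fun x _ => Finset.mem_univ _) hz 5 1 (by rw [Finset.card_univ, h5]) (by omega)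
        z.support (Finset.subset_univ _) inv_support (by rw [hs]) (fun x hx => Perm.mem_support.1 hx)
        (fun x _ hx => Perm.notMem_support.1 hx) tri5 (by decide +kernel) (by decide +kernel)
    obtain ⟨eu, heu⟩ := mk u hu hu1
    obtain ⟨ew, hew⟩ := mk w hw hw1
    refine embed u w (fun y => (eu.symm y : α)) (Subtype.val_injective.comp eu.symm.injective) tri5 (fun y => ?_)
      Finset.univ (fun x => by simp) ew fun s => by rw [hew]; exact models5 s
    rw [← heu]
    simp
  · -- six points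
    have mk : ∀ z : Perm α, (∀ x, per z x ∣ 3) → z ≠ 1 → ∃ (T : Finset α) (hT : ∀ x, x ∈ T ↔ z x ∈ T)
        (e : ↥T ≃ ZMod 6), e.permCongr (z.subtypePerm fun x => (hT x).symm) = tri61 ∨
          e.permCongr (z.subtypePerm fun x => (hT x).symm) = tri62 := by
      intro z hz hz1
      rcases hsupp z hz hz1 with hs | hs
      · obtain ⟨T, hsT, -, hTc⟩ := Finset.exists_subsuperset_card_eq (s := z.support) (t := Finset.univ) (n := 6)
          (Finset.subset_univ _) (by omega) (by rw [Finset.card_univ]; omega)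
        have hTinv : Inv z T := fun y hy => by
          by_cases h : z y = y
          · rwa [h]
          · exact hsT (inv_support y (Perm.mem_support.2 h))
        obtain ⟨e, he⟩ := triple_model z T hTinv hz 6 1 hTc (by omega) z.support hsT inv_support (by rw [hs])
          (fun x hx => Perm.mem_support.1 hx) (fun x _ hx => Perm.notMem_support.1 hx) tri61 (by decide +kernel)
          (by decide +kernel)
        exact ⟨T, fun x => hTinv.mem_iff.symm, e, Or.inl he⟩
      · obtain ⟨B, hBs, hB, hBc⟩ := hdiv z hz z.support (Finset.Subset.refl _) inv_support 2 (by omega)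
        obtain ⟨e, he⟩ := triple_model z B hB hz 6 2 hBc (by omega) B (Finset.Subset.refl _) hB hBc
          (fun x hx => Perm.mem_support.1 (hBs hx)) (fun x hx hx' => absurd hx hx') tri62 (by decide +kernel)
          (by decide +kernel)
        exact ⟨B, fun x => hB.mem_iff.symm, e, Or.inr he⟩
    obtain ⟨S, hS, eu, heu⟩ := mk u hu hu1
    obtain ⟨T, hT, ew, hew⟩ := mk w hw hw1
    refine embed u w (fun y => (eu.symm y : α)) (Subtype.val_injective.comp eu.symm.injective) _ (fun y => ?_)
      T hT ew fun s => models6 _ _ heu hew s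
    simp

/-- Two nontrivial `p`-elements have even conjugates forming a good pair. -/
theorem exists_good_pair {p : ℕ} [Fact p.Prime] (hp3 : 3 ≤ p) (hn : 5 ≤ Fintype.card α) (u w : Perm α)
    (hu : ∃ e, u ^ p ^ e = 1) (hw : ∃ e, w ^ p ^ e = 1) (hu1 : u ≠ 1) (hw1 : w ≠ 1) :
    ∃ G : Perm α, Perm.sign G = 1 ∧ Good p u (G * w * G⁻¹) := by
  classical
  have hp : p.Prime := Fact.out
  have step : ∀ u w : Perm α, (∃ e, u ^ p ^ e = 1) → (∃ e, w ^ p ^ e = 1) → u ≠ 1 → w ≠ 1 → ∀ x0,
      (∀ x, per u x ≤ per u x0) → (∀ x, per w x ≤ per u x0) → ∃ G : Perm α, Perm.sign G = 1 ∧ Good p u (G * w * G⁻¹) := by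
    intro u w hu hw hu1 hw1 x0 hmu hmw
    obtain ⟨e, he⟩ := per_dvd_pow u (x := x0) hu
    obtain ⟨M, -, hM⟩ := (Nat.dvd_prime_pow hp).1 he
    have hdvd : ∀ z : Perm α, (∃ e, z ^ p ^ e = 1) → (∀ x, per z x ≤ per u x0) → ∀ x, per z x ∣ p ^ M := by
      intro z hz hm x
      obtain ⟨e, he⟩ := per_dvd_pow z (x := x) hz
      obtain ⟨i, -, hi⟩ := (Nat.dvd_prime_pow hp).1 he
      rw [hi]
      refine pow_dvd_pow p ((Nat.pow_le_pow_iff_right hp.one_lt).1 ?_)
      rw [← hi, ← hM]
      exact hm x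
    by_cases h5 : 5 ≤ p ^ M
    · exact pair_of_cycle hp3 rfl h5 u w x0 hM hw (hdvd w hw hmw) hw1
    · have hM1 : M ≤ 1 := by
        by_contra h
        have := Nat.pow_le_pow_right hp.pos (show 2 ≤ M by omega)
        have : 3 * 3 ≤ p ^ 2 := by rw [sq]; exact Nat.mul_le_mul hp3 hp3
        omega
      obtain rfl : p = 3 := by
        rcases Nat.eq_zero_or_pos M with rfl | hpos
        · exfalso
          refine hu1 (Equiv.ext fun x => (per_eq_one u).1 ?_)
          have := hdvd u hu hmu x
          rwa [pow_zero, Nat.dvd_one] at this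
        · obtain rfl : M = 1 := by omega
          rw [pow_one] at h5
          rcases Nat.lt_or_ge p 4 with h | h
          · omega
          · obtain rfl : p = 4 := by omega
            norm_num at hp
      have hd : 3 ^ M ∣ 3 := (pow_dvd_pow 3 hM1).trans (by norm_num)
      exact pair_of_three hn u w (fun x => (hdvd u hu hmu x).trans hd) (fun x => (hdvd w hw hmw x).trans hd) hu1 hw1
  haveI : Nonempty α := Fintype.card_pos_iff.1 (by omega)
  obtain ⟨xu, hxu⟩ := Finite.exists_max (per u)
  obtain ⟨xw, hxw⟩ := Finite.exists_max (per w)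
  rcases Nat.le_total (per w xw) (per u xu) with h | h
  · exact step u w hu hw hu1 hw1 xu hxu fun x => (hxw x).trans h
  · obtain ⟨G, hG, hgood⟩ := step w u hw hu hw1 hu1 xw hxw fun x => (hxu x).trans h
    refine ⟨G⁻¹, by rw [Perm.sign_inv, hG], ?_⟩
    rw [inv_inv]
    exact hgood.symm_conj

end CfsgLib.PElemPair
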