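import Cfsg.Agent.Lib.PElemPair.Solvable

/-!
# Good pairs of `p`-elements, transfer along maps, and the small models
-/

set_option autoImplicit false

namespace CfsgLib.PElemPair

open Equiv

/-- The pair generates a non-solvable group and the product has order not a power of `p`. -/
def Good {G : Type*} [Group G] (p : ℕ) (u v : G) : Prop :=
  (∀ e : ℕ, (u * v) ^ p ^ e ≠ 1) ∧ ¬ Group.IsSolvable ↥(Subgroup.closure ({u, v} : Set G))

theorem ne_one_of_coprime {G : Type*} [Group G] {p : ℕ} {x : G} {L : ℕ} (hL : x ^ L = 1) (hc : L.Coprime p) (hx : x ≠ 1)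
    (e : ℕ) : x ^ p ^ e ≠ 1 := fun h => by
  refine hx (orderOf_eq_one_iff.1 ?_)
  exact Nat.eq_one_of_dvd_coprimes (hc.pow_right e) (orderOf_dvd_of_pow_eq_one hL) (orderOf_dvd_of_pow_eq_one h)

/-- Solvability passes through a functional relation. -/
theorem solvable_transfer {G G0 : Type*} [Group G] [Group G0] (K : Subgroup (G × G0))
    (hK : ∀ g0, ((1 : G), g0) ∈ K → g0 = 1) {a b : G} {a0 b0 : G0} (ha : (a, a0) ∈ K) (hb : (b, b0) ∈ K)
    {A : Subgroup G} (haA : a ∈ A) (hbA : b ∈ A) (hs : Group.IsSolvable ↥A) :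
    Group.IsSolvable ↥(Subgroup.closure ({a0, b0} : Set G0)) := by
  let L : Subgroup (G × G0) := K ⊓ A.comap (MonoidHom.fst G G0)
  have hinj : Function.Injective (((MonoidHom.fst G G0).comp L.subtype).codRestrict A fun z => z.2.2) := by
    rw [injective_iff_map_eq_one]
    intro z hz
    have h1 : (z : G × G0).1 = 1 := congrArg Subtype.val hz
    have h2 : ((1 : G), (z : G × G0).2) ∈ K := by rw [← h1]; exact z.2.1
    exact Subtype.ext (Prod.ext h1 (hK _ h2))
  haveI : Group.IsSolvable ↥L := Group.isSolvable_of_isSolvable_injective hinj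
  haveI : Group.IsSolvable ↥(L.map (MonoidHom.snd G G0)) :=
    solvable_of_surjective ((MonoidHom.snd G G0).subgroupMap_surjective L)
  have hle : Subgroup.closure ({a0, b0} : Set G0) ≤ L.map (MonoidHom.snd G G0) := by
    rw [Subgroup.closure_le]
    rintro z (rfl | rfl)
    · exact ⟨(a, z), ⟨ha, haA⟩, rfl⟩
    · exact ⟨(b, z), ⟨hb, hbA⟩, rfl⟩
  exact Group.isSolvable_of_isSolvable_injective (Subgroup.inclusion_injective hle)

/-- Restriction to an invariant block. -/
theorem Good.of_embedding {α β : Type*} {p q : ℕ} {u v : Perm α} {u0 v0 : Perm β} (ι : β → α)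
    (hι : Function.Injective ι) (hu : ∀ y, (u ^ q) (ι y) = ι (u0 y)) (hv : ∀ y, v (ι y) = ι (v0 y))
    (hfix : ∀ y j, 0 < j → j < q → v ((u ^ j) (ι y)) = (u ^ j) (ι y)) (hq : 0 < q) (h : Good p u0 v0) :
    Good p u v := by
  refine ⟨fun e he => h.1 e ?_, fun hs => h.2 ?_⟩
  · have hstep : ∀ y, ∀ j, j < q → ((u * v) ^ (j + 1)) (ι y) = (u ^ (j + 1)) (ι (v0 y)) := by
      intro y j
      induction j with
      | zero => intro _; rw [pow_one, pow_one, Perm.mul_apply, hv]
      | succ j ih =>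
        intro hj
        rw [pow_succ' (u * v), Perm.mul_apply, ih (by omega), Perm.mul_apply, hfix _ _ (Nat.succ_pos j) hj,
          pow_succ' u (j + 1), Perm.mul_apply]
    have hq' : ∀ y, ((u * v) ^ q) (ι y) = ι ((u0 * v0) y) := fun y => by
      obtain ⟨j, rfl⟩ := Nat.exists_eq_succ_of_ne_zero hq.ne'
      rw [hstep y j j.lt_succ_self, hu, Perm.mul_apply]
    have hn : ∀ n y, (((u * v) ^ q) ^ n) (ι y) = ι (((u0 * v0) ^ n) y) := by
      intro n
      induction n with
      | zero => intro y; simp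
      | succ n ih => intro y; rw [pow_succ', Perm.mul_apply, ih, hq', pow_succ', Perm.mul_apply, Perm.mul_apply, Perm.mul_apply]
    ext y
    refine hι ?_
    rw [← hn, ← pow_mul, mul_comm, pow_mul, he, one_pow]
    simp
  · let K : Subgroup (Perm α × Perm β) :=
      { carrier := {g | ∀ y, g.1 (ι y) = ι (g.2 y)}
        one_mem' := fun y => rfl
        mul_mem' := fun {a b} ha hb y => by
          show a.1 (b.1 (ι y)) = ι (a.2 (b.2 y))
          rw [hb, ha]
        inv_mem' := fun {a} ha y => by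
          show a.1⁻¹ (ι y) = ι (a.2⁻¹ y)
          rw [Perm.inv_def, Equiv.symm_apply_eq, ha, Perm.inv_def, Equiv.apply_symm_apply] }
    have huA : u ∈ Subgroup.closure ({u, v} : Set (Perm α)) := Subgroup.subset_closure (Or.inl rfl)
    have hvA : v ∈ Subgroup.closure ({u, v} : Set (Perm α)) := Subgroup.subset_closure (Or.inr rfl)
    refine solvable_transfer K (fun g0 hg => ?_) (a := u ^ q) (b := v) hu hv (pow_mem huA q) hvA hs
    ext y
    exact hι ((hg y).symm)

/-- Passing to a quotient action. -/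
theorem Good.of_quotient {α β : Type*} {p : ℕ} {u v : Perm α} {u0 v0 : Perm β} (π : α → β)
    (hπ : Function.Surjective π) (hu : ∀ x, π (u x) = u0 (π x)) (hv : ∀ x, π (v x) = v0 (π x))
    (h : Good p u0 v0) : Good p u v := by
  let K : Subgroup (Perm α × Perm β) :=
    { carrier := {g | ∀ x, π (g.1 x) = g.2 (π x)}
      one_mem' := fun x => rfl
      mul_mem' := fun {a b} ha hb x => by
        show π (a.1 (b.1 x)) = a.2 (b.2 (π x))
        rw [ha, hb]
      inv_mem' := fun {a} ha x => by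
        show π (a.1⁻¹ x) = a.2⁻¹ (π x)
        have := ha (a.1⁻¹ x)
        rw [Perm.inv_def, Equiv.apply_symm_apply] at this
        rw [Perm.inv_def, Perm.inv_def, Equiv.eq_symm_apply, ← this] }
  refine ⟨fun e he => h.1 e ?_, fun hs => h.2 ?_⟩
  · have hm : ((u * v) ^ p ^ e, (u0 * v0) ^ p ^ e) ∈ K :=
      K.pow_mem (show (u * v, u0 * v0) ∈ K from K.mul_mem (x := (u, u0)) (y := (v, v0)) hu hv) _
    ext z
    obtain ⟨x, rfl⟩ := hπ z
    rw [← hm x, he]; rfl
  · refine solvable_transfer K (fun g0 hg => ?_) (a := u) (b := v) (A := Subgroup.closure ({u, v} : Set (Perm α))) hu hv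
      (Subgroup.subset_closure (Or.inl rfl)) (Subgroup.subset_closure (Or.inr rfl)) hs
    ext z
    obtain ⟨x, rfl⟩ := hπ z
    exact (hg x).symm

/-! ### Prime degree -/

theorem good_prime {p : ℕ} [Fact p.Prime] {v : Perm (ZMod p)} (hv : ∃ e, v ^ p ^ e = 1)
    (h : ∀ e : ℕ, (rot p * v) ^ p ^ e ≠ 1) : Good p (rot p) v := by
  refine ⟨h, fun hs => h 1 ?_⟩
  rw [pow_one]
  exact prime_degree (H := Subgroup.closure {rot p, v}) (Subgroup.subset_closure (Or.inl rfl))
    (Subgroup.subset_closure (Or.inr rfl)) hv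

theorem natCast_ne {r a b : ℕ} (ha : a < r) (hb : b < r) (h : a ≠ b) : (a : ZMod r) ≠ (b : ZMod r) := by
  intro h'
  rw [ZMod.natCast_eq_natCast_iff', Nat.mod_eq_of_lt ha, Nat.mod_eq_of_lt hb] at h'
  exact h h'

theorem rot_conj_swap (r : ℕ) (a b : ZMod r) : rot r * swap a b * (rot r)⁻¹ = swap (a + 1) (b + 1) :=
  (Equiv.swap_apply_apply (rot r) a b).symm

/-- On `p ≥ 5` points two conjugates of the inverse rotation, by conjugators of either sign. -/
theorem prime_models {p : ℕ} [hp : Fact p.Prime] (h5 : 5 ≤ p) (s : ℤˣ) :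
    ∃ σ : Perm (ZMod p), Perm.sign σ = s ∧ Good p (rot p) (σ * (rot p)⁻¹ * σ⁻¹) := by
  have hne : ∀ a b : ℕ, a < 4 → b < 4 → a ≠ b → (a : ZMod p) ≠ (b : ZMod p) :=
    fun a b ha hb h => natCast_ne (by omega) (by omega) h
  have h01 : (0 : ZMod p) ≠ 1 := by simpa using hne 0 1 (by omega) (by omega) (by omega)
  have h02 : (0 : ZMod p) ≠ 2 := by simpa using hne 0 2 (by omega) (by omega) (by omega)
  have h03 : (0 : ZMod p) ≠ 3 := by simpa using hne 0 3 (by omega) (by omega) (by omega)
  have h12 : (1 : ZMod p) ≠ 2 := by simpa using hne 1 2 (by omega) (by omega) (by omega)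
  have h13 : (1 : ZMod p) ≠ 3 := by simpa using hne 1 3 (by omega) (by omega) (by omega)
  have key : ∀ σ : Perm (ZMod p), Perm.IsThreeCycle (rot p * (σ * (rot p)⁻¹ * σ⁻¹)) →
      Good p (rot p) (σ * (rot p)⁻¹ * σ⁻¹) := by
    intro σ hσ
    refine good_prime ⟨1, by rw [pow_one, conj_pow, inv_pow, rot_pow_self, inv_one, mul_one, mul_inv_cancel]⟩ ?_
    refine ne_one_of_coprime (L := 3) ?_ ((Nat.coprime_primes Nat.prime_three hp.out).2 (by omega)) ?_
    · have := pow_orderOf_eq_one (rot p * (σ * (rot p)⁻¹ * σ⁻¹))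
      rwa [hσ.orderOf] at this
    · intro h
      have := hσ.orderOf
      rw [h, orderOf_one] at this
      omega
  rcases Int.units_eq_one_or s with rfl | rfl
  · refine ⟨swap 0 1 * swap 1 2, ?_, key _ ?_⟩
    · rw [map_mul, Perm.sign_swap h01, Perm.sign_swap h12]; decide
    · have e : rot p * (swap (0 : ZMod p) 1 * swap 1 2 * (rot p)⁻¹ * (swap (0 : ZMod p) 1 * swap 1 2)⁻¹) =
          (rot p * swap (0 : ZMod p) 1 * (rot p)⁻¹) * (rot p * swap (1 : ZMod p) 2 * (rot p)⁻¹) * swap 1 2 * swap 0 1 := by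
        rw [mul_inv_rev, swap_inv, swap_inv]; group
      rw [e, rot_conj_swap, rot_conj_swap, zero_add, one_add_one_eq_two, two_add_one_eq_three,
        show swap (1 : ZMod p) 2 * swap (2 : ZMod p) 3 * swap 1 2 = swap 1 3 by
          have := Equiv.swap_apply_apply (swap (1 : ZMod p) 2) 2 3
          rw [swap_apply_right, swap_apply_of_ne_of_ne h13.symm (by
            simpa using hne 3 2 (by omega) (by omega) (by omega)), swap_inv] at this
          exact this.symm,
        swap_comm (0 : ZMod p) 1]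
      exact Perm.isThreeCycle_swap_mul_swap_same h13 h01.symm h03.symm
  · refine ⟨swap 0 1, Perm.sign_swap h01, key _ ?_⟩
    have e : rot p * (swap (0 : ZMod p) 1 * (rot p)⁻¹ * (swap (0 : ZMod p) 1)⁻¹) =
        (rot p * swap (0 : ZMod p) 1 * (rot p)⁻¹) * swap 0 1 := by rw [swap_inv]; group
    rw [e, rot_conj_swap, zero_add, one_add_one_eq_two, swap_comm (0 : ZMod p) 1]
    exact Perm.isThreeCycle_swap_mul_swap_same h12 h01.symm h02.symm

/-! ### Degree `p ^ 2` -/

theorem good_square {p : ℕ} [Fact p.Prime] (hp : p ≠ 2) {r : ℕ} (hr : r = p ^ 2) {v : Perm (ZMod r)}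
    (h : ∀ e : ℕ, (rot r * v) ^ p ^ e ≠ 1) (x y : ZMod r) (hxy : (p : ZMod r) * (x - y) = 0)
    (hv : (p : ZMod r) * (v x - v y) ≠ 0) : Good p (rot r) v :=
  ⟨h, fun hs => hv (square_degree (H := Subgroup.closure {rot r, v}) hp hr (Subgroup.subset_closure (Or.inl rfl))
    (Subgroup.subset_closure (Or.inr rfl)) hxy)⟩

/-- A permutation of nine points with a `9`-cycle. -/
def nineOdd : Perm (ZMod 9) := swap 7 8

/-- The other conjugator. -/
def nineEven : Perm (ZMod 9) := swap 5 6 * swap 7 8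

/-- Three triples. -/
def nineTriple : Perm (ZMod 9) :=
  ⟨![1, 2, 0, 4, 5, 3, 8, 6, 7], ![2, 0, 1, 5, 3, 4, 7, 8, 6], by unfold Function.LeftInverse; decide, by unfold Function.RightInverse Function.LeftInverse; decide⟩

theorem nine_models (s : ℤˣ) : ∃ σ : Perm (ZMod 9), Perm.sign σ = s ∧ Good 3 (rot 9) (σ * rot 9 * σ⁻¹) := by
  haveI : Fact (Nat.Prime 3) := ⟨Nat.prime_three⟩
  rcases Int.units_eq_one_or s with rfl | rfl
  · refine ⟨nineEven, by decide +kernel, good_square (by decide) (by norm_num)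
      (ne_one_of_coprime (L := 7) (by decide +kernel) (by decide) (by decide +kernel)) 0 6 (by decide +kernel) (by decide +kernel)⟩
  · refine ⟨nineOdd, by decide +kernel, good_square (by decide) (by norm_num)
      (ne_one_of_coprime (L := 4) (by decide +kernel) (by decide) (by decide +kernel)) 0 6 (by decide +kernel) (by decide +kernel)⟩

theorem good_nineTriple : Good 3 (rot 9) nineTriple := by
  haveI : Fact (Nat.Prime 3) := ⟨Nat.prime_three⟩
  exact good_square (by decide) (by norm_num)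
    (ne_one_of_coprime (L := 7) (by decide +kernel) (by decide) (by decide +kernel)) 0 6 (by decide +kernel) (by decide +kernel)

end CfsgLib.PElemPair
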