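import Cfsg.Agent.Lib.PElemPair.Models

/-!
# Invariant sets of permutations of prime power order
-/

set_option autoImplicit false

namespace CfsgLib.PElemPair

open Equiv

variable {α : Type*} [Fintype α] [DecidableEq α] {p : ℕ} (W : Perm α)

/-- The length of the cycle through a point. -/
noncomputable def per (x : α) : ℕ := MulAction.period W x

/-- An invariant set. -/
def Inv (A : Finset α) : Prop := ∀ x ∈ A, W x ∈ A

theorem per_pos (x : α) : 0 < per W x := MulAction.period_pos_of_orderOf_pos (orderOf_pos W) x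

omit [DecidableEq α] in
theorem pow_eq_iff {n : ℕ} {x : α} : (W ^ n) x = x ↔ per W x ∣ n := by
  show (W ^ n) • x = x ↔ _
  exact MulAction.pow_smul_eq_iff_period_dvd

omit [DecidableEq α] in
theorem zpow_eq_iff {n : ℤ} {x : α} : (W ^ n) x = x ↔ (per W x : ℤ) ∣ n := by
  show (W ^ n) • x = x ↔ _
  exact MulAction.zpow_smul_eq_iff_period_dvd

theorem per_eq_one {x : α} : per W x = 1 ↔ W x = x := by
  constructor
  · intro h
    have := (pow_eq_iff W (n := 1) (x := x)).2 (by rw [h])
    rwa [pow_one] at this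
  · intro h
    exact Nat.dvd_one.1 ((pow_eq_iff W (n := 1)).1 (by rw [pow_one, h]))

theorem per_dvd_pow {x : α} (hW : ∃ e, W ^ p ^ e = 1) : ∃ e, per W x ∣ p ^ e := by
  obtain ⟨e, he⟩ := hW
  exact ⟨e, (pow_eq_iff W).1 (by rw [he]; rfl)⟩

/-- The cycle through a point. -/
noncomputable def orb (x : α) : Finset α := (Finset.range (per W x)).image fun i => (W ^ i) x

theorem mem_orb_iff {x y : α} : y ∈ orb W x ↔ ∃ i : ℕ, (W ^ i) x = y := by
  simp only [orb, Finset.mem_image, Finset.mem_range]
  refine ⟨fun ⟨i, _, h⟩ => ⟨i, h⟩, fun ⟨i, h⟩ => ⟨i % per W x, Nat.mod_lt _ (per_pos W x), ?_⟩⟩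
  have : (W ^ (per W x * (i / per W x))) x = x := (pow_eq_iff W).2 (dvd_mul_right _ _)
  rw [← h]
  conv_rhs => rw [← Nat.mod_add_div i (per W x), pow_add, Perm.mul_apply, this]

theorem self_mem_orb (x : α) : x ∈ orb W x := (mem_orb_iff W).2 ⟨0, rfl⟩

theorem orb_inv (x : α) : Inv W (orb W x) := by
  intro y hy
  obtain ⟨i, rfl⟩ := (mem_orb_iff W).1 hy
  exact (mem_orb_iff W).2 ⟨i + 1, by rw [pow_succ', Perm.mul_apply]⟩

theorem card_orb (x : α) : (orb W x).card = per W x := by
  rw [orb, Finset.card_image_of_injOn, Finset.card_range]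
  have key : ∀ a b, a ≤ b → b < per W x → (W ^ a) x = (W ^ b) x → a = b := by
    intro a b hle hb h
    have h1 : (W ^ (b - a)) x = x := by
      refine (W ^ a).injective ?_
      rw [← Perm.mul_apply, ← pow_add, Nat.add_sub_cancel' hle]
      exact h.symm
    rcases Nat.eq_zero_or_pos (b - a) with h2 | h2
    · omega
    · have := Nat.le_of_dvd h2 ((pow_eq_iff W).1 h1)
      omega
  intro i hi j hj h
  simp only [Finset.coe_range, Set.mem_Iio] at hi hj
  rcases Nat.le_total i j with hle | hle
  · exact key i j hle hj h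
  · exact (key j i hle hi h.symm).symm

variable {W}

theorem Inv.orb_subset {A : Finset α} (h : Inv W A) {x : α} (hx : x ∈ A) : orb W x ⊆ A := by
  intro y hy
  obtain ⟨i, rfl⟩ := (mem_orb_iff W).1 hy
  clear hy
  induction i with
  | zero => simpa using hx
  | succ i ih => rw [pow_succ', Perm.mul_apply]; exact h _ ih

theorem Inv.mem_iff {A : Finset α} (h : Inv W A) {x : α} : W x ∈ A ↔ x ∈ A := by
  refine ⟨fun hx => ?_, h x⟩
  have := h.orb_subset hx ((mem_orb_iff W).2 ⟨per W x - 1, rfl⟩)
  have e : (W ^ (per W x - 1)) (W x) = x := by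
    rw [← Perm.mul_apply, ← pow_succ, Nat.sub_add_cancel (per_pos W x)]
    exact (pow_eq_iff W).2 dvd_rfl
  rwa [e] at this

theorem Inv.sdiff {A B : Finset α} (hA : Inv W A) (hB : Inv W B) : Inv W (A \ B) := fun x hx => by
  rw [Finset.mem_sdiff] at hx ⊢
  exact ⟨hA x hx.1, fun h => hx.2 (hB.mem_iff.1 h)⟩

theorem Inv.union {A B : Finset α} (hA : Inv W A) (hB : Inv W B) : Inv W (A ∪ B) := fun x hx => by
  rw [Finset.mem_union] at hx ⊢
  exact hx.imp (hA x) (hB x)

theorem inv_support : Inv W W.support := fun x hx => Perm.apply_mem_support.2 hx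

theorem inv_compl_support : Inv W W.supportᶜ := fun x hx => by
  rw [Finset.mem_compl] at hx ⊢
  exact fun h => hx (Perm.apply_mem_support.1 h)

/-- Cycle lengths bounded by `p ^ k` in an invariant set of size at least `p ^ k` give a subset of size exactly `p ^ k`. -/
theorem exists_subset (hp : p.Prime) : ∀ k (A : Finset α), Inv W A → (∀ x ∈ A, per W x ∣ p ^ k) → p ^ k ≤ A.card →
    ∃ B ⊆ A, Inv W B ∧ B.card = p ^ k := by
  intro k
  induction k with
  | zero =>
    intro A hA hper hcard
    obtain ⟨x, hx⟩ := Finset.card_pos.1 (lt_of_lt_of_le (by simp) hcard)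
    refine ⟨orb W x, hA.orb_subset hx, orb_inv W x, ?_⟩
    rw [card_orb]
    simpa using hper x hx
  | succ k ih =>
    intro A hA hper hcard
    by_cases hbig : ∃ x ∈ A, ¬ per W x ∣ p ^ k
    · obtain ⟨x, hx, hnd⟩ := hbig
      refine ⟨orb W x, hA.orb_subset hx, orb_inv W x, ?_⟩
      obtain ⟨i, hi, he⟩ := (Nat.dvd_prime_pow hp).1 (hper x hx)
      rw [card_orb, he]
      rcases Nat.lt_or_ge i (k + 1) with h | h
      · exact absurd (he ▸ pow_dvd_pow p (by omega)) hnd
      · rw [show i = k + 1 by omega]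
    push Not at hbig
    have key : ∀ c, c ≤ p → ∃ B ⊆ A, Inv W B ∧ B.card = c * p ^ k := by
      intro c
      induction c with
      | zero => exact fun _ => ⟨∅, Finset.empty_subset _, fun x hx => absurd hx (Finset.notMem_empty x), by simp⟩
      | succ c ihc =>
        intro hc
        obtain ⟨B, hBA, hB, hBc⟩ := ihc (by omega)
        have hrest : p ^ k ≤ (A \ B).card := by
          rw [Finset.card_sdiff_of_subset hBA, hBc]
          rw [pow_succ'] at hcard
          have : (c + 1) * p ^ k ≤ p * p ^ k := Nat.mul_le_mul_right _ hc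
          rw [Nat.succ_mul] at this
          omega
        obtain ⟨C, hCA, hC, hCc⟩ := ih (A \ B) (hA.sdiff hB) (fun x hx => hbig x (Finset.mem_sdiff.1 hx).1) hrest
        refine ⟨B ∪ C, Finset.union_subset hBA (hCA.trans Finset.sdiff_subset), hB.union hC, ?_⟩
        rw [Finset.card_union_of_disjoint (Finset.disjoint_of_subset_right hCA Finset.disjoint_sdiff), hBc, hCc, Nat.succ_mul]
    obtain ⟨B, hBA, hB, hBc⟩ := key p le_rfl
    exact ⟨B, hBA, hB, by rw [hBc, pow_succ']⟩

/-- An invariant set cut into `c` invariant parts of size `p ^ k`. -/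
theorem exists_partition (hp : p.Prime) : ∀ (c k : ℕ) (A : Finset α), Inv W A → (∀ x ∈ A, per W x ∣ p ^ k) →
    A.card = c * p ^ k → ∃ h : α → ℕ, (∀ x ∈ A, h x < c) ∧ (∀ x ∈ A, h (W x) = h x) ∧
      ∀ i < c, (A.filter fun x => h x = i).card = p ^ k := by
  intro c
  induction c with
  | zero =>
    intro k A hA hper hcard
    rw [zero_mul, Finset.card_eq_zero] at hcard
    exact ⟨fun _ => 0, by simp [hcard], by simp [hcard], fun i hi => absurd hi (Nat.not_lt_zero i)⟩
  | succ c ihc =>
    intro k A hA hper hcard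
    obtain ⟨B, hBA, hB, hBc⟩ := exists_subset hp k A hA hper (by rw [hcard, Nat.succ_mul]; omega)
    obtain ⟨h, h1, h2, h3⟩ := ihc k (A \ B) (hA.sdiff hB) (fun x hx => hper x (Finset.mem_sdiff.1 hx).1)
      (by rw [Finset.card_sdiff_of_subset hBA, hBc, hcard, Nat.succ_mul]; omega)
    refine ⟨fun x => if x ∈ B then c else h x, ?_, ?_, ?_⟩
    · intro x hx
      dsimp only
      split
      · omega
      · next hxB => have := h1 x (Finset.mem_sdiff.2 ⟨hx, hxB⟩); omega
    · intro x hx
      simp only [hB.mem_iff]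
      split
      · rfl
      · next hxB => exact h2 x (Finset.mem_sdiff.2 ⟨hx, hxB⟩)
    · intro i hi
      rcases Nat.lt_or_ge i c with hlt | hge
      · rw [← h3 i hlt]
        congr 1
        ext x
        simp only [Finset.mem_filter, Finset.mem_sdiff]
        by_cases hxB : x ∈ B
        · simp [hxB]; omega
        · simp [hxB]
      · rw [show i = c by omega, ← hBc]
        congr 1
        ext x
        simp only [Finset.mem_filter]
        by_cases hxB : x ∈ B
        · simp [hxB, hBA hxB]
        · simp only [hxB, if_false, iff_false, not_and]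
          intro hxA
          have := h1 x (Finset.mem_sdiff.2 ⟨hxA, hxB⟩)
          omega

variable (W) in
/-- A position function modulo `s` along the cycles of length divisible by `s`. -/
theorem exists_phi (s : ℕ) : ∃ φ : α → ZMod s, ∀ x, s ∣ per W x → φ (W x) = φ x + 1 := by
  let Q := Quotient (Perm.SameCycle.setoid W)
  have hi : ∀ x, ∃ i : ℤ, (W ^ i) ((Quotient.mk (Perm.SameCycle.setoid W) x : Q).out) = x := fun x =>
    Quotient.exact (s := Perm.SameCycle.setoid W) (Quotient.out_eq _)
  refine ⟨fun x => ((hi x).choose : ZMod s), fun x hs => ?_⟩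
  have e : (Quotient.mk (Perm.SameCycle.setoid W) (W x) : Q) = Quotient.mk _ x :=
    Quotient.sound (Perm.sameCycle_apply_left.2 (Perm.SameCycle.refl W x))
  have h1' := (hi (W x)).choose_spec
  have h2 := (hi x).choose_spec
  set r := (Quotient.mk (Perm.SameCycle.setoid W) x : Q).out
  set i := (hi x).choose
  set j := (hi (W x)).choose
  have h1 : (W ^ j) r = W x := (congrArg (fun q : Q => (W ^ j) q.out) e).symm.trans h1'
  have h3 : (W ^ (j - (i + 1))) r = r := by
    refine (W ^ (i + 1)).injective ?_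
    rw [← Perm.mul_apply, ← zpow_add, add_sub_cancel, h1, zpow_add, zpow_one, (Commute.self_zpow W i).eq.symm,
      Perm.mul_apply, h2]
  have hper : per W x = per W r := by
    refine Nat.dvd_antisymm ?_ ?_
    · refine (pow_eq_iff W).1 ?_
      rw [← h2, ← Perm.mul_apply, ← zpow_natCast W (per W r), ← zpow_add, add_comm, zpow_add, Perm.mul_apply,
        (zpow_eq_iff W).2 dvd_rfl]
    · refine (pow_eq_iff W).1 ?_
      refine (W ^ i).injective ?_
      rw [← Perm.mul_apply, ← zpow_natCast W (per W x), ← zpow_add, add_comm, zpow_add, Perm.mul_apply, h2,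
        (zpow_eq_iff W).2 dvd_rfl]
  have h4 := (Int.natCast_dvd_natCast.2 (hper ▸ hs)).trans ((zpow_eq_iff W).1 h3)
  rw [← ZMod.intCast_zmod_eq_zero_iff_dvd, Int.cast_sub, sub_eq_zero, Int.cast_add, Int.cast_one] at h4
  exact h4

end CfsgLib.PElemPair
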