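import Cfsg.Agent.Lib.PElemPair.Cycle

/-!
# Elements of order three on five or six points
-/

set_option autoImplicit false

namespace CfsgLib.PElemPair

open Equiv

/-- Labels of the cycles `(3j, 3j + 1, 3j + 2)`. -/
def triLab (m : ℕ) (j : ℕ) (i : ZMod (3 ^ 1)) : ZMod m := ((3 * j + i.val : ℕ) : ZMod m)

/-- One or two triples. -/
def tri5 : Perm (ZMod 5) := ⟨![1, 2, 0, 3, 4], ![2, 0, 1, 3, 4], by unfold Function.LeftInverse; decide, by unfold Function.RightInverse Function.LeftInverse; decide⟩

def tri61 : Perm (ZMod 6) := ⟨![1, 2, 0, 3, 4, 5], ![2, 0, 1, 3, 4, 5], by unfold Function.LeftInverse; decide, by unfold Function.RightInverse Function.LeftInverse; decide⟩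

def tri62 : Perm (ZMod 6) := ⟨![1, 2, 0, 4, 5, 3], ![2, 0, 1, 5, 3, 4], by unfold Function.LeftInverse; decide, by unfold Function.RightInverse Function.LeftInverse; decide⟩

def conj5 : Perm (ZMod 5) := ⟨![0, 3, 4, 1, 2], ![0, 3, 4, 1, 2], by unfold Function.LeftInverse; decide, by unfold Function.RightInverse Function.LeftInverse; decide⟩

def conj6a : Perm (ZMod 6) := ⟨![0, 3, 4, 1, 2, 5], ![0, 3, 4, 1, 2, 5], by unfold Function.LeftInverse; decide, by unfold Function.RightInverse Function.LeftInverse; decide⟩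

def conj6b : Perm (ZMod 6) := ⟨![0, 1, 3, 2, 5, 4], ![0, 1, 3, 2, 5, 4], by unfold Function.LeftInverse; decide, by unfold Function.RightInverse Function.LeftInverse; decide⟩

def conj6c : Perm (ZMod 6) := swap 2 3

theorem good_triangle {β : Type*} {u v x y : Perm β} (L : ℕ) (hL : (u * v) ^ L = 1) (hc : L.Coprime 3)
    (hne : u * v ≠ 1) (hx : x ∈ Subgroup.closure ({u, v} : Set (Perm β))) (hy : y ∈ Subgroup.closure ({u, v} : Set (Perm β)))
    (x2 : x ^ 2 = 1) (y3 : y ^ 3 = 1) (xy : (x * y) ^ 5 = 1) (hx1 : x ≠ 1) : Good 3 u v :=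
  ⟨ne_one_of_coprime hL hc hne, not_solvable_of_triangle hx hy x2 y3 xy hx1⟩

theorem word_mem {β : Type*} (u v : Perm β) : ∀ l : List Bool, (l.map fun b => if b then u else v).prod ∈ Subgroup.closure ({u, v} : Set (Perm β)) := by
  intro l
  refine list_prod_mem fun z hz => ?_
  obtain ⟨b, -, rfl⟩ := List.mem_map.1 hz
  cases b
  · exact Subgroup.subset_closure (Or.inr rfl)
  · exact Subgroup.subset_closure (Or.inl rfl)

theorem good55 : Good 3 tri5 (conj5 * tri5 * conj5⁻¹) :=
  good_triangle 5 (by decide +kernel) (by decide) (by decide +kernel) (word_mem _ _ [true, true, false, true, false])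
    (word_mem _ _ [true]) (by decide +kernel) (by decide +kernel) (by decide +kernel) (by decide +kernel)

theorem good611 : Good 3 tri61 (conj6a * tri61 * conj6a⁻¹) :=
  good_triangle 5 (by decide +kernel) (by decide) (by decide +kernel) (word_mem _ _ [true, true, false, true, false])
    (word_mem _ _ [true]) (by decide +kernel) (by decide +kernel) (by decide +kernel) (by decide +kernel)

theorem good622 : Good 3 tri62 (conj6b * tri62 * conj6b⁻¹) :=
  good_triangle 5 (by decide +kernel) (by decide) (by decide +kernel) (word_mem _ _ [true, true, false, true, false])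
    (word_mem _ _ [true]) (by decide +kernel) (by decide +kernel) (by decide +kernel) (by decide +kernel)

theorem good612 : Good 3 tri61 (conj6c * tri62 * conj6c⁻¹) :=
  good_triangle 4 (by decide +kernel) (by decide) (by decide +kernel) (word_mem _ _ [true, false, true, false])
    (word_mem _ _ [true]) (by decide +kernel) (by decide +kernel) (by decide +kernel) (by decide +kernel)

theorem Good.symm_conj {G : Type*} [Group G] {p : ℕ} {u w g : G} (h : Good p u (g * w * g⁻¹)) :
    Good p w (g⁻¹ * u * g) := by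
  refine ⟨fun e he => h.1 e ?_, fun hs => h.2 ?_⟩
  · have e3 : u * (g * w * g⁻¹) = (u * g) * (w * (g⁻¹ * u * g)) * (u * g)⁻¹ := by group
    rw [e3, conj_pow, he, mul_one, mul_inv_cancel]
  · have hle : Subgroup.closure ({u, g * w * g⁻¹} : Set G) ≤
        (Subgroup.closure ({w, g⁻¹ * u * g} : Set G)).map (MulAut.conj g).toMonoidHom := by
      rw [Subgroup.closure_le]
      rintro z (rfl | rfl)
      · exact ⟨g⁻¹ * z * g, Subgroup.subset_closure (Or.inr rfl), by simp [mul_assoc]⟩
      · exact ⟨w, Subgroup.subset_closure (Or.inl rfl), by simp⟩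
    haveI := solvable_of_surjective ((MulAut.conj g).toMonoidHom.subgroupMap_surjective (Subgroup.closure ({w, g⁻¹ * u * g} : Set G)))
    exact Group.isSolvable_of_isSolvable_injective (Subgroup.inclusion_injective hle)

/-- Both signs through an odd centralizing element. -/
theorem signs_of_flip {β : Type*} [Fintype β] [DecidableEq β] {p : ℕ} {u w g τ : Perm β} (hτ : Perm.sign τ = -1)
    (hc : τ * w * τ⁻¹ = w) (h : Good p u (g * w * g⁻¹)) (s : ℤˣ) :
    ∃ g : Perm β, Perm.sign g = s ∧ Good p u (g * w * g⁻¹) := by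
  by_cases hs : Perm.sign g = s
  · exact ⟨g, hs, h⟩
  · refine ⟨g * τ, ?_, ?_⟩
    · rw [map_mul, hτ, Int.units_ne_iff_eq_neg.1 hs, mul_neg, mul_one, neg_neg]
    · rwa [show g * τ * w * (g * τ)⁻¹ = g * (τ * w * τ⁻¹) * g⁻¹ by group, hc]

theorem models5 (s : ℤˣ) : ∃ g : Perm (ZMod 5), Perm.sign g = s ∧ Good 3 tri5 (g * tri5 * g⁻¹) :=
  signs_of_flip (τ := swap 3 4) (by decide +kernel) (by decide +kernel) good55 s

theorem models6 (u w : Perm (ZMod 6)) (hu : u = tri61 ∨ u = tri62) (hw : w = tri61 ∨ w = tri62) (s : ℤˣ) :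
    ∃ g : Perm (ZMod 6), Perm.sign g = s ∧ Good 3 u (g * w * g⁻¹) := by
  have h21 : Good 3 tri62 (conj6c⁻¹ * tri61 * conj6c⁻¹⁻¹) := by rw [inv_inv]; exact good612.symm_conj
  rcases hu with rfl | rfl <;> rcases hw with rfl | rfl
  · exact signs_of_flip (τ := swap 3 4) (by decide +kernel) (by decide +kernel) good611 s
  · exact signs_of_flip (τ := swap 0 3 * swap 1 4 * swap 2 5) (by decide +kernel) (by decide +kernel) good612 s
  · exact signs_of_flip (τ := swap 3 4) (by decide +kernel) (by decide +kernel) h21 s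
  · exact signs_of_flip (τ := swap 0 3 * swap 1 4 * swap 2 5) (by decide +kernel) (by decide +kernel) good622 s

end CfsgLib.PElemPair
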