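import Mathlib

/-!
# Solvable permutation groups with a regular cycle on `p` or `p ^ 2` points, and a triangle criterion
-/

set_option autoImplicit false

namespace CfsgLib.PElemPair

open Equiv
open scoped commutatorElement

/-- `(2,3,5)`-generators give a non-solvable group. -/
theorem not_solvable_of_triangle {G : Type*} [Group G] {H : Subgroup G} {x y : G} (hx : x ∈ H) (hy : y ∈ H)
    (x2 : x ^ 2 = 1) (y3 : y ^ 3 = 1) (xy : (x * y) ^ 5 = 1) (hne : x ≠ 1) : ¬ Group.IsSolvable ↥H := by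
  intro hs
  let K : Subgroup G := Subgroup.closure {x, y}
  have hKH : K ≤ H := (Subgroup.closure_le _).2 (by rintro z (rfl | rfl) <;> assumption)
  haveI : Group.IsSolvable ↥K := solvable_of_solvable_injective (Subgroup.inclusion_injective hKH)
  let a : ↥K := ⟨x, Subgroup.subset_closure (by simp)⟩
  let b : ↥K := ⟨y, Subgroup.subset_closure (by simp)⟩
  haveI : Nontrivial ↥K := ⟨⟨a, 1, fun h => hne (congrArg Subtype.val h)⟩⟩
  have hlt := Group.IsSolvable.commutator_lt_top_of_nontrivial ↥K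
  refine hlt.ne (top_le_iff.1 ?_)
  have hab : a ∈ commutator ↥K ∧ b ∈ commutator ↥K := by
    set A := Abelianization.of (G := ↥K) a with hA
    set B := Abelianization.of (G := ↥K) b with hB
    have a2 : A ^ 2 = 1 := by rw [hA, ← map_pow, show a ^ 2 = 1 from Subtype.ext x2, map_one]
    have b3 : B ^ 3 = 1 := by rw [hB, ← map_pow, show b ^ 3 = 1 from Subtype.ext y3, map_one]
    have ab : (A * B) ^ 5 = 1 := by rw [hA, hB, ← map_mul, ← map_pow, show (a * b) ^ 5 = 1 from Subtype.ext xy, map_one]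
    have hB1 : B = 1 := by
      have h : ((A * B) ^ 5) ^ 2 = B := by
        calc ((A * B) ^ 5) ^ 2 = (A ^ 2) ^ 5 * (B ^ 3) ^ 3 * B := by
              rw [← pow_mul, mul_pow, ← pow_mul, ← pow_mul, mul_assoc, ← pow_succ]
          _ = B := by rw [a2, b3, one_pow, one_pow, one_mul, one_mul]
      rw [← h, ab, one_pow]
    have hA1 : A = 1 := by
      rw [hB1, mul_one] at ab
      calc A = A ^ 5 * ((A ^ 2) ^ 2)⁻¹ := by rw [← pow_mul, eq_mul_inv_iff_mul_eq, ← pow_succ']
        _ = 1 := by rw [ab, a2, one_pow, inv_one, one_mul]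
    constructor <;> rw [← Abelianization.ker_of, MonoidHom.mem_ker]
    · exact hA1
    · exact hB1
  have hgen : Subgroup.closure {a, b} = (⊤ : Subgroup ↥K) := by
    have h := Subgroup.closure_closure_coe_preimage (k := ({x, y} : Set G))
    rw [← top_le_iff, ← h]
    refine Subgroup.closure_mono ?_
    rintro z (hzz | hzz)
    · exact Or.inl (Subtype.ext hzz)
    · exact Or.inr (Subtype.ext hzz)
  rw [← hgen, Subgroup.closure_le]
  rintro z (rfl | rfl)
  · exact hab.1
  · exact hab.2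

/-- A nontrivial solvable group has a nontrivial abelian subgroup of prime exponent normalized by it. -/
theorem exists_abelian_normal {G : Type*} [Group G] [Finite G] {H : Subgroup G} [Group.IsSolvable ↥H] (hH : H ≠ ⊥) :
    ∃ (q : ℕ) (N : Subgroup G), q.Prime ∧ N ≤ H ∧ N ≠ ⊥ ∧ (∀ a ∈ N, a ^ q = 1) ∧
      (∀ a ∈ N, ∀ b ∈ N, Commute a b) ∧ ∀ h ∈ H, ∀ a ∈ N, h * a * h⁻¹ ∈ N := by
  classical
  obtain ⟨n, hn⟩ := (Group.isSolvable_def ↥H).1 inferInstance
  have h0 : derivedSeries ↥H 0 ≠ ⊥ := by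
    rw [derivedSeries_zero]
    haveI : Nontrivial ↥H := (Subgroup.nontrivial_iff_ne_bot H).2 hH
    exact top_ne_bot
  have hex : ∃ m, derivedSeries ↥H m = ⊥ := ⟨n, hn⟩
  obtain ⟨m, hm⟩ : ∃ m, Nat.find hex = m + 1 := by
    refine Nat.exists_eq_succ_of_ne_zero fun h => h0 ?_
    rw [← h]; exact Nat.find_spec hex
  set A := derivedSeries ↥H m with hA
  have hAne : A ≠ ⊥ := Nat.find_min hex (by omega)
  have hsucc : derivedSeries ↥H (m + 1) = ⊥ := hm ▸ Nat.find_spec hex
  have hAn : A.Normal := derivedSeries_normal ↥H m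
  have hcomm : ∀ a ∈ A, ∀ b ∈ A, Commute a b := by
    intro a ha b hb
    have : ⁅a, b⁆ ∈ derivedSeries ↥H (m + 1) := Subgroup.commutator_mem_commutator ha hb
    rw [hsucc, Subgroup.mem_bot, commutatorElement_eq_one_iff_mul_comm] at this
    exact this
  obtain ⟨q, hq, hdvd⟩ := Nat.exists_prime_and_dvd (n := Nat.card ↥A) (fun h => hAne (Subgroup.card_eq_one.1 h))
  haveI := Fact.mk hq
  obtain ⟨z, hz⟩ := exists_prime_orderOf_dvd_card' q hdvd
  let N0 : Subgroup ↥H :=
    { carrier := {a | a ∈ A ∧ a ^ q = 1}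
      one_mem' := ⟨one_mem A, one_pow q⟩
      mul_mem' := fun {a b} ha hb => ⟨mul_mem ha.1 hb.1, by rw [(hcomm a ha.1 b hb.1).mul_pow, ha.2, hb.2, one_mul]⟩
      inv_mem' := fun {a} ha => ⟨inv_mem ha.1, by rw [inv_pow, ha.2, inv_one]⟩ }
  refine ⟨q, N0.map H.subtype, hq, Subgroup.map_subtype_le N0, ?_, ?_, ?_, ?_⟩
  · intro h
    have hz' : (z : ↥H) ∈ N0 := ⟨z.2, by
      have := pow_orderOf_eq_one z
      rw [hz] at this
      simpa using congrArg Subtype.val this⟩
    have := h ▸ Subgroup.mem_map_of_mem H.subtype hz'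
    rw [Subgroup.mem_bot] at this
    have hz1 : z = 1 := Subtype.ext (Subtype.ext this)
    rw [hz1, orderOf_one] at hz
    exact hq.one_lt.ne hz
  · rintro _ ⟨a, ha, rfl⟩
    rw [← map_pow, ha.2, map_one]
  · rintro _ ⟨a, ha, rfl⟩ _ ⟨b, hb, rfl⟩
    exact (hcomm a ha.1 b hb.1).map H.subtype
  · rintro h hh _ ⟨a, ha, rfl⟩
    refine ⟨⟨h, hh⟩ * a * ⟨h, hh⟩⁻¹, ⟨hAn.conj_mem a ha.1 _, ?_⟩, rfl⟩
    rw [conj_pow, ha.2, mul_one, mul_inv_cancel]

/-- The unit translation. -/
def rot (r : ℕ) : Perm (ZMod r) := Equiv.addRight 1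

theorem rot_apply (r : ℕ) (x : ZMod r) : rot r x = x + 1 := rfl

theorem rot_pow_apply (r j : ℕ) (x : ZMod r) : (rot r ^ j) x = x + j := by
  induction j with
  | zero => simp
  | succ j ih => rw [pow_succ', Perm.mul_apply, ih, rot_apply, Nat.cast_succ, add_assoc]

theorem rot_pow_self (r : ℕ) : rot r ^ r = 1 := by
  ext x
  rw [rot_pow_apply]
  simp

section orbit

variable {r : ℕ} [NeZero r] {H N : Subgroup (Perm (ZMod r))} (hrot : rot r ∈ H)
  (hnorm : ∀ h ∈ H, ∀ a ∈ N, h * a * h⁻¹ ∈ N)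

/-- Membership of the same orbit of `N`. -/
def Same (N : Subgroup (Perm (ZMod r))) (x y : ZMod r) : Prop := ∃ a ∈ N, a x = y

omit [NeZero r] in
theorem Same.refl (x : ZMod r) : Same N x x := ⟨1, one_mem N, rfl⟩

omit [NeZero r] in
theorem Same.symm {x y : ZMod r} (h : Same N x y) : Same N y x := by
  obtain ⟨a, ha, rfl⟩ := h
  exact ⟨a⁻¹, inv_mem ha, by simp⟩

omit [NeZero r] in
theorem Same.trans {x y z : ZMod r} (h : Same N x y) (h' : Same N y z) : Same N x z := by
  obtain ⟨a, ha, rfl⟩ := h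
  obtain ⟨b, hb, rfl⟩ := h'
  exact ⟨b * a, mul_mem hb ha, rfl⟩

omit [NeZero r] in
include hnorm in
theorem Same.map {x y : ZMod r} {g : Perm (ZMod r)} (hg : g ∈ H) (h : Same N x y) : Same N (g x) (g y) := by
  obtain ⟨a, ha, rfl⟩ := h
  exact ⟨g * a * g⁻¹, hnorm g hg a ha, by simp [Perm.mul_apply]⟩

include hrot hnorm in
theorem Same.add {x y : ZMod r} (t : ZMod r) (h : Same N x y) : Same N (x + t) (y + t) := by
  have := Same.map hnorm (pow_mem hrot t.val) h
  rwa [rot_pow_apply, rot_pow_apply, ZMod.natCast_zmod_val] at this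

/-- The orbit of `0` is a subgroup. -/
def orb0 : AddSubgroup (ZMod r) where
  carrier := {x | Same N 0 x}
  zero_mem' := Same.refl 0
  add_mem' := fun {a b} ha hb => by
    have := Same.add hrot hnorm b ha
    rw [zero_add] at this
    exact Same.trans hb this
  neg_mem' := fun {a} ha => by
    have := Same.add hrot hnorm (-a) ha
    rw [zero_add, add_neg_cancel] at this
    exact this.symm

theorem mem_orb0 {x : ZMod r} : x ∈ orb0 hrot hnorm ↔ Same N 0 x := Iff.rfl

include hrot hnorm in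
theorem same_iff {x y : ZMod r} : Same N x y ↔ y - x ∈ orb0 hrot hnorm := by
  rw [mem_orb0]
  constructor
  · intro h
    have := Same.add hrot hnorm (-x) h
    rwa [add_neg_cancel, ← sub_eq_add_neg] at this
  · intro h
    have := Same.add hrot hnorm x h
    rwa [zero_add, sub_add_cancel] at this

theorem orb0_ne_bot (hN : N ≠ ⊥) : orb0 hrot hnorm ≠ ⊥ := by
  intro h
  refine hN ((Subgroup.eq_bot_iff_forall _).2 fun a ha => Equiv.ext fun x => ?_)
  have := (same_iff hrot hnorm (x := x) (y := a x)).1 ⟨a, ha, rfl⟩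
  rw [h, AddSubgroup.mem_bot, sub_eq_zero] at this
  simpa using this

omit [NeZero r] in
/-- In a transitive abelian group an element is fixed by one value. -/
theorem eq_of_apply_zero (htr : ∀ x, Same N 0 x) {a b : Perm (ZMod r)}
    (ha : ∀ c ∈ N, Commute a c) (hb : ∀ c ∈ N, Commute b c) (h : a 0 = b 0) : a = b := by
  ext x
  obtain ⟨c, hc, rfl⟩ := htr x
  rw [← Perm.mul_apply, (ha c hc).eq, Perm.mul_apply, h, ← Perm.mul_apply, ← (hb c hc).eq, Perm.mul_apply]

omit [NeZero r] in
theorem card_regular (htr : ∀ x, Same N 0 x) (hab : ∀ a ∈ N, ∀ b ∈ N, Commute a b) : Nat.card ↥N = r := by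
  refine (Nat.card_congr (Equiv.ofBijective (fun a : ↥N => (a : Perm (ZMod r)) 0) ⟨?_, ?_⟩)).trans (Nat.card_zmod r)
  · intro a b h
    exact Subtype.ext (eq_of_apply_zero htr (hab _ a.2) (hab _ b.2) h)
  · intro x
    obtain ⟨a, ha, h⟩ := htr x
    exact ⟨⟨a, ha⟩, h⟩

end orbit

/-- An element of `p`-power order normalizing a subgroup of order `p` centralizes it. -/
theorem commute_of_normalizes {G : Type*} [Group G] [Finite G] {p : ℕ} [Fact p.Prime] {N : Subgroup G}
    (hN : Nat.card ↥N = p) {g : G} (hg : ∃ e, g ^ p ^ e = 1) (hn : ∀ a ∈ N, g * a * g⁻¹ ∈ N) :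
    ∀ a ∈ N, Commute g a := by
  intro a ha
  obtain ⟨e, he⟩ := hg
  by_cases ha1 : a = 1
  · subst ha1; exact Commute.one_right g
  have hap : a ^ p = 1 := by
    have := pow_card_eq_one' (x := (⟨a, ha⟩ : ↥N))
    rw [hN] at this
    exact congrArg Subtype.val this
  have hgen := zpowers_eq_top_of_prime_card (g := (⟨a, ha⟩ : ↥N)) hN (fun h => ha1 (congrArg Subtype.val h))
  have hmem : (⟨g * a * g⁻¹, hn a ha⟩ : ↥N) ∈ Subgroup.zpowers (⟨a, ha⟩ : ↥N) := hgen ▸ Subgroup.mem_top _
  obtain ⟨k, hk⟩ := mem_powers_iff_mem_zpowers.2 hmem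
  have hk' : g * a * g⁻¹ = a ^ k := (congrArg Subtype.val hk).symm
  have hj : ∀ j : ℕ, g ^ j * a * (g ^ j)⁻¹ = a ^ (k ^ j) := by
    intro j
    induction j with
    | zero => simp
    | succ j ih =>
      calc g ^ (j + 1) * a * (g ^ (j + 1))⁻¹ = g ^ j * (g * a * g⁻¹) * (g ^ j)⁻¹ := by rw [pow_succ]; group
        _ = g ^ j * a ^ k * (g ^ j)⁻¹ := by rw [hk']
        _ = (g ^ j * a * (g ^ j)⁻¹) ^ k := by rw [conj_pow]
        _ = a ^ (k ^ (j + 1)) := by rw [ih, ← pow_mul, pow_succ]
  have hmod : k ^ p ^ e % p = k % p := by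
    refine (ZMod.natCast_eq_natCast_iff' _ _ p).1 ?_
    rw [Nat.cast_pow, ZMod.pow_card_pow]
  have h1 := hj (p ^ e)
  rw [he, one_mul, inv_one, mul_one, pow_eq_pow_mod _ hap, hmod, ← pow_eq_pow_mod _ hap, ← hk'] at h1
  exact mul_inv_eq_iff_eq_mul.1 h1.symm

theorem rot_ne_one {r : ℕ} (hr : 1 < r) : rot r ≠ 1 := by
  intro h
  haveI : Fact (1 < r) := ⟨hr⟩
  have := Equiv.congr_fun h (0 : ZMod r)
  rw [rot_apply, zero_add] at this
  exact one_ne_zero this

/-- Solvable groups on `p` points containing the cycle: `p`-elements generate a `p`-group. -/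
theorem prime_degree {p : ℕ} [Fact p.Prime] {H : Subgroup (Perm (ZMod p))} [Group.IsSolvable ↥H]
    (hrot : rot p ∈ H) {v : Perm (ZMod p)} (hv : v ∈ H) (hvp : ∃ e, v ^ p ^ e = 1) : (rot p * v) ^ p = 1 := by
  have hH : H ≠ ⊥ := fun h => rot_ne_one (Fact.out : p.Prime).one_lt (by rw [h] at hrot; exact hrot)
  obtain ⟨q, N, -, -, hN, -, hab, hnorm⟩ := exists_abelian_normal hH
  have htop : orb0 hrot hnorm = ⊤ := by
    haveI : Fact (Nat.card (ZMod p)).Prime := ⟨by rw [Nat.card_zmod]; exact Fact.out⟩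
    rcases AddSubgroup.eq_bot_or_eq_top_of_prime_card (orb0 hrot hnorm) with h | h
    · exact absurd h (orb0_ne_bot hrot hnorm hN)
    · exact h
  have htr : ∀ x, Same N 0 x := fun x => (mem_orb0 hrot hnorm).1 (htop ▸ AddSubgroup.mem_top x)
  have hc := card_regular htr hab
  have hmem : ∀ g ∈ H, (∃ e, g ^ p ^ e = 1) → g ∈ N := by
    intro g hg hgp
    have hcg := commute_of_normalizes hc hgp (hnorm g hg)
    obtain ⟨a, ha, h0⟩ := htr (g 0)
    exact eq_of_apply_zero htr (fun c hc' => hab a ha c hc') hcg h0 ▸ ha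
  have hm := mul_mem (hmem _ hrot ⟨1, by rw [pow_one]; exact rot_pow_self p⟩) (hmem v hv hvp)
  have := pow_card_eq_one' (x := (⟨_, hm⟩ : ↥N))
  rw [hc] at this
  exact congrArg Subtype.val this

/-- Solvable groups on `p ^ 2` points containing the cycle preserve the residues modulo `p`. -/
theorem square_degree {p : ℕ} [hp : Fact p.Prime] (hp2 : p ≠ 2) {r : ℕ} (hrp : r = p ^ 2) {H : Subgroup (Perm (ZMod r))}
    [Group.IsSolvable ↥H] (hrot : rot r ∈ H) {g : Perm (ZMod r)} (hg : g ∈ H) {x y : ZMod r}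
    (hxy : (p : ZMod r) * (x - y) = 0) : (p : ZMod r) * (g x - g y) = 0 := by
  have hr : 1 < r := hrp ▸ Nat.one_lt_pow two_ne_zero hp.out.one_lt
  have : NeZero r := ⟨by omega⟩
  have hH : H ≠ ⊥ := fun h => rot_ne_one hr (by rw [h] at hrot; exact hrot)
  obtain ⟨q, N, hq, -, hN, hexp, hab, hnorm⟩ := exists_abelian_normal hH
  haveI := Fact.mk hq
  have hK : Nat.card ↥(orb0 hrot hnorm) ∣ p ^ 2 := by
    have := (orb0 hrot hnorm).card_addSubgroup_dvd_card
    rw [Nat.card_zmod] at this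
    exact this.trans (dvd_of_eq hrp)
  obtain ⟨i, hi, hKi⟩ := (Nat.dvd_prime_pow hp.out).1 hK
  have hi0 : i ≠ 0 := fun h => orb0_ne_bot hrot hnorm hN (AddSubgroup.card_eq_one.1 (by rw [hKi, h, pow_zero]))
  rcases Nat.lt_or_ge i 2 with h1 | h1
  · -- proper orbits: they are the residue classes
    obtain rfl : i = 1 := by omega
    rw [pow_one] at hKi
    let L : AddSubgroup (ZMod r) := (AddMonoidHom.mulLeft (p : ZMod r)).ker
    have hle : orb0 hrot hnorm ≤ L := by
      intro z hz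
      have := card_nsmul_eq_zero' (x := (⟨z, hz⟩ : ↥(orb0 hrot hnorm)))
      rw [hKi] at this
      have := congrArg Subtype.val this
      simp only [AddSubgroup.coe_nsmul, ZeroMemClass.coe_zero, nsmul_eq_mul] at this
      exact this
    have hL : Nat.card ↥L ≤ p := by
      have hd : ∀ z : ↥L, p ∣ (z : ZMod r).val := fun z => by
        have h : ((p * (z : ZMod r).val : ℕ) : ZMod r) = 0 := by
          rw [Nat.cast_mul, ZMod.natCast_zmod_val]; exact z.2
        rw [ZMod.natCast_eq_zero_iff] at h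
        exact Nat.dvd_of_mul_dvd_mul_left hp.out.pos ((dvd_of_eq (hrp.trans (sq p)).symm).trans h)
      have hlt : ∀ z : ↥L, (z : ZMod r).val / p < p := fun z => by
        rw [Nat.div_lt_iff_lt_mul hp.out.pos, ← sq, ← hrp]; exact ZMod.val_lt _
      refine le_of_le_of_eq (Nat.card_le_card_of_injective (fun z : ↥L => (⟨_, hlt z⟩ : Fin p)) ?_) (Nat.card_fin p)
      intro z w h
      refine Subtype.ext (ZMod.val_injective _ ?_)
      have h' : (z : ZMod r).val / p = (w : ZMod r).val / p := congrArg Fin.val h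
      rw [← Nat.div_mul_cancel (hd z), ← Nat.div_mul_cancel (hd w), h']
    have heq : orb0 hrot hnorm = L := AddSubgroup.eq_of_le_of_card_ge hle (by rw [hKi]; exact hL)
    have hs : Same N x y := (same_iff hrot hnorm).2 (by
      rw [heq]; show (p : ZMod r) * (y - x) = 0
      rw [← neg_sub, mul_neg, hxy, neg_zero])
    have := hle ((same_iff hrot hnorm).1 (Same.map hnorm hg hs.symm))
    exact this
  · -- a regular elementary abelian normal subgroup is impossible
    exfalso
    obtain rfl : i = 2 := by omega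
    have htop : orb0 hrot hnorm = ⊤ := AddSubgroup.eq_top_of_card_eq _ (by rw [hKi, Nat.card_zmod, hrp])
    have htr : ∀ z, Same N 0 z := fun z => (mem_orb0 hrot hnorm).1 (htop ▸ AddSubgroup.mem_top z)
    have hc := card_regular htr hab
    obtain rfl : q = p := by
      obtain ⟨a, ha, ha1⟩ : ∃ a, a ∈ N ∧ a ≠ 1 := by
        by_contra hcon
        push Not at hcon
        exact hN ((Subgroup.eq_bot_iff_forall _).2 hcon)
      have h1 : orderOf (⟨a, ha⟩ : ↥N) ∣ p ^ 2 := (orderOf_dvd_natCard (⟨a, ha⟩ : ↥N)).trans (dvd_of_eq (hc.trans hrp))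
      have h2 : orderOf a = q := orderOf_eq_prime (hexp a ha) ha1
      rw [Subgroup.orderOf_mk, h2] at h1
      exact (Nat.prime_dvd_prime_iff_eq hq hp.out).1 (hq.dvd_of_dvd_pow h1)
    -- the automorphism induced by the rotation
    let φ : MulAut ↥N :=
      { toFun := fun a => ⟨rot r * (a : Perm (ZMod r)) * (rot r)⁻¹, hnorm _ hrot _ a.2⟩
        invFun := fun a => ⟨(rot r)⁻¹ * (a : Perm (ZMod r)) * rot r, by
          simpa using hnorm _ (inv_mem hrot) _ a.2⟩
        left_inv := fun a => Subtype.ext (by simp [mul_assoc])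
        right_inv := fun a => Subtype.ext (by simp [mul_assoc])
        map_mul' := fun a b => Subtype.ext (by simp [mul_assoc]) }
    have hφpow : ∀ j : ℕ, ∀ a : ↥N, (((φ ^ j) a : ↥N) : Perm (ZMod r)) = rot r ^ j * (a : Perm (ZMod r)) * (rot r ^ j)⁻¹ := by
      intro j
      induction j with
      | zero => intro a; simp
      | succ j ih =>
        intro a
        rw [pow_succ', MulAut.mul_apply]
        show rot r * (((φ ^ j) a : ↥N) : Perm (ZMod r)) * _ = _
        rw [ih, pow_succ']; group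
    have hP : IsPGroup q ↥(Subgroup.zpowers φ) := by
      have h1 : φ ^ r = 1 := MulEquiv.ext fun a => Subtype.ext (by
        rw [hφpow, rot_pow_self]; simp)
      obtain ⟨j, -, hj⟩ := (Nat.dvd_prime_pow hp.out).1 ((orderOf_dvd_of_pow_eq_one h1).trans (dvd_of_eq hrp))
      exact IsPGroup.of_card (n := j) (by rw [Nat.card_zpowers, hj])
    let F : Subgroup ↥N := φ.toMonoidHom.eqLocus (MonoidHom.id _)
    have hF : F ≠ ⊥ := by
      have hmod := hP.card_modEq_card_fixedPoints ↥N
      intro hF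
      have h1 : Nat.card (MulAction.fixedPoints ↥(Subgroup.zpowers φ) ↥N) = 1 := by
        rw [Nat.card_eq_one_iff_unique]
        refine ⟨⟨fun a b => Subtype.ext ?_⟩, ⟨⟨1, fun g => ?_⟩⟩⟩
        · have e : ∀ c : MulAction.fixedPoints ↥(Subgroup.zpowers φ) ↥N, (c : ↥N) = 1 := fun c =>
            (Subgroup.eq_bot_iff_forall _).1 hF c (c.2 ⟨φ, Subgroup.mem_zpowers φ⟩)
          rw [e a, e b]
        · exact map_one (g : MulAut ↥N)
      rw [h1, hc, hrp] at hmod
      have : q ^ 2 % q = 1 % q := hmod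
      rw [Nat.mod_eq_of_lt hq.one_lt, Nat.mod_eq_zero_of_dvd] at this
      · exact zero_ne_one this
      · exact dvd_pow_self q two_ne_zero
    let d : ↥N →* ↥N :=
      { toFun := fun a => φ a * a⁻¹
        map_one' := by simp
        map_mul' := fun a b => by
          have hc : ∀ c e : ↥N, c * e = e * c := fun c e => Subtype.ext (hab _ c.2 _ e.2)
          rw [map_mul, mul_inv_rev, hc b⁻¹ a⁻¹]
          calc φ a * φ b * (a⁻¹ * b⁻¹) = φ a * (φ b * a⁻¹) * b⁻¹ := by group
            _ = φ a * a⁻¹ * (φ b * b⁻¹) := by rw [hc (φ b) a⁻¹]; group }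
    have hker : d.ker = F := by
      ext a
      rw [MonoidHom.mem_ker]
      show φ a * a⁻¹ = 1 ↔ φ a = a
      exact mul_inv_eq_one
    have hdd : ∀ a, φ (d a) = d a := by
      intro a
      have hcard : Nat.card ↥d.range * Nat.card ↥F = q ^ 2 := by
        rw [← hker, ← Subgroup.index_ker, mul_comm, Subgroup.card_mul_index, hc, hrp]
      have hdvd : Nat.card ↥d.range ∣ q ^ 2 := Dvd.intro _ hcard
      obtain ⟨j, hj2, hj⟩ := (Nat.dvd_prime_pow hp.out).1 hdvd
      rcases j with _ | _ | j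
      · have : d a = 1 := Subgroup.mem_bot.1 (Subgroup.card_eq_one.1 (by rw [hj, pow_zero]) ▸ ⟨a, rfl⟩)
        rw [this, map_one]
      · rw [zero_add, pow_one] at hj
        have hR : Nat.card ↥(d.range.map N.subtype) = q := by
          rw [← hj]; exact (Nat.card_congr (d.range.equivMapOfInjective _ N.subtype_injective).toEquiv).symm
        have := commute_of_normalizes hR (g := rot r) ⟨2, by rw [← hrp]; exact rot_pow_self _⟩ (by
          rintro _ ⟨_, ⟨b, rfl⟩, rfl⟩
          refine ⟨φ (d b), ⟨φ b, ?_⟩, rfl⟩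
          show φ (φ b) * (φ b)⁻¹ = φ (φ b * b⁻¹)
          rw [map_mul, map_inv]) (d a : ↥N) ⟨d a, ⟨a, rfl⟩, rfl⟩
        refine Subtype.ext ?_
        show rot r * ((d a : ↥N) : Perm (ZMod r)) * (rot r)⁻¹ = _
        rw [this.eq, mul_inv_cancel_right]
      · exfalso
        refine hF (Subgroup.card_eq_one.1 ?_)
        rw [hj, show j + 1 + 1 = 2 by omega] at hcard
        exact (Nat.mul_eq_left (pow_ne_zero 2 hq.ne_zero)).1 hcard
    obtain ⟨n, hn, hn0⟩ := htr (rot r 0)
    set m : ↥N := ⟨n, hn⟩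
    set c := d m with hcdef
    have hφm : φ m = c * m := by rw [hcdef]; show _ = φ m * m⁻¹ * m; group
    have hab' : ∀ a b : ↥N, Commute a b := fun a b => Subtype.ext (hab _ a.2 _ b.2)
    have key : ∀ j : ℕ, (rot r ^ j) 0 = ((m ^ j * c ^ j.choose 2 : ↥N) : Perm (ZMod r)) 0 := by
      intro j
      induction j with
      | zero => simp
      | succ j ih =>
        have e : φ (m ^ j * c ^ j.choose 2) * m = m ^ (j + 1) * c ^ (j + 1).choose 2 := by
          rw [map_mul, map_pow, map_pow, hφm, hdd m, ← hcdef, (hab' c m).mul_pow,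
            Nat.choose_succ_succ, Nat.choose_one_right, pow_add, pow_succ]
          rw [pow_zero, one_mul, pow_add, show c ^ j * m ^ j = m ^ j * c ^ j from (hab' _ _).eq]
          simp only [mul_assoc]
          congr 1
          rw [(hab' (c ^ j.choose 2) m).eq, ← mul_assoc, (hab' (c ^ j) m).eq, mul_assoc]
        rw [pow_succ', Perm.mul_apply, ih, ← e]
        set X : ↥N := m ^ j * c ^ j.choose 2
        rw [Subgroup.coe_mul, Perm.mul_apply]
        show _ = (rot r * (X : Perm (ZMod r)) * (rot r)⁻¹) (n 0)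
        rw [hn0, Perm.mul_apply, Perm.mul_apply, Perm.inv_def, Equiv.symm_apply_apply]
        rfl
    have h0 : (rot r ^ q) (0 : ZMod r) = 0 := by
      have e1 : m ^ q = 1 := Subtype.ext (hexp n hn)
      have e2 : c ^ q.choose 2 = 1 := by
        obtain ⟨t, ht⟩ := hq.dvd_choose_self (k := 2) two_ne_zero (by have := hq.two_le; omega)
        rw [ht, pow_mul, show c ^ q = 1 from Subtype.ext (hexp c c.2), one_pow]
      rw [key, e1, e2, mul_one]; rfl
    rw [rot_pow_apply, zero_add, ZMod.natCast_eq_zero_iff, hrp] at h0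
    have := Nat.le_of_dvd hq.pos h0
    have := hq.two_le
    nlinarith

end CfsgLib.PElemPair
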